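import Groth.Prelude.Def_SGA3x
import Groth.Prelude.Def_SGA3b
import Groth.Agent.Sga3B.TorusAlgClosed
import Groth.Agent.Sga3B.BcSpec892
import Groth.Agent.Sga3B.DSAff
import Groth.Agent.Sga3A.MTConst

/-!
# Groups of multiplicative type over a field: scheme form and Hopf algebra form

* `isAffineHom_of_isMultTypeFT`: a group of multiplicative type is affine over the base (any base);
* `exists_field_split`: over a field `k` it becomes diagonalisable over some extension field of `k`;
* `exists_bialgEquiv_of_isMultTypeFT`, `isMultTypeConst_of_isMultTypeFT`, `isMultTypeFT_of_isMultTypeConst`: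
  comparison with the Hopf algebra form `SGA3b.IsMultTypeConst`.
-/

set_option autoImplicit false
universe u
open CategoryTheory MonoidalCategory CartesianMonoidalCategory MonObj GrpObj AlgebraicGeometry Limits
open scoped TensorProduct

namespace Groth.Agent.Sga3.H829.MultConv

open Groth.Agent.Sga3B Groth.Agent.Sga3B.TorusAlgClosed Groth.Agent.Books.AffBridge

section base

variable {S : Scheme.{u}}

/-- Properties of the structure morphism of a group of multiplicative type and of finite type which are fpqc local on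
the base hold as soon as they hold for `Spec ℤ[M]`, `M` finitely generated. -/
theorem prop_of_isMultTypeFT {P : MorphismProperty Scheme.{u}} [IsZariskiLocalAtTarget P]
    [P.IsStableUnderBaseChange] [P.DescendsAlong (@Surjective ⊓ @Flat ⊓ @QuasiCompact)]
    (hP : ∀ (M : Type) [AddCommGroup M], AddGroup.FG M → P (Red.diag (ULift.{u} ℤ) M).hom) {T : Over S} [GrpObj T]
    (h : SGA3x.IsMultTypeFT T) : P T.hom := by
  obtain ⟨S', f, hf, -, hc, h⟩ := h
  refine FpqcLoc.of_fpqc_cover T.hom f hc fun s' => ?_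
  obtain ⟨U, hU, M, _, hM, hr⟩ := h s'
  exact ⟨U, hU, prop_of_isSplitTorusWith (hP M hM) hr⟩

/-- A group of multiplicative type is affine over its base. -/
lemma isAffineHom_of_isMultTypeFT {T : Over S} [GrpObj T] (h : SGA3x.IsMultTypeFT T) : IsAffineHom T.hom := by
  have := Etbase.FpqcDescent.descendsAlong_isAffineHom.{u}
  exact prop_of_isMultTypeFT (P := @IsAffineHom) (fun _ _ _ => inferInstance) h

end base

section field

variable {k : Type u} [Field k]

/-- A group of multiplicative type over a field becomes diagonalisable over an extension field. -/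
theorem exists_field_split {T : Over (Spec (CommRingCat.of k))} [GrpObj T] (h : SGA3x.IsMultTypeFT T) :
    ∃ (L : Type u) (_ : Field L) (_ : Algebra k L) (M : Type) (_ : AddCommGroup M), AddGroup.FG M ∧
      Nonempty (Grp.mk (Red.bc (Spec.map (CommRingCat.ofHom (algebraMap k L))) T) ≅
        Grp.mk (Red.DS (Spec (CommRingCat.of L)) M)) := by
  obtain ⟨S', f, hf, hs, hc, h⟩ := h
  obtain ⟨s', -⟩ := f.surjective (IsLocalRing.closedPoint k)
  obtain ⟨U, hU, M, _, hM, ⟨e⟩⟩ := h s'
  let x : U.toScheme := ⟨s', hU⟩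
  let q : Spec (U.toScheme.residueField x) ⟶ U.toScheme := U.toScheme.fromSpecResidueField x
  let φ : k →+* U.toScheme.residueField x := (Spec.preimage (q ≫ U.ι ≫ f)).hom
  let := φ.toAlgebra
  have hφ : Spec.map (CommRingCat.ofHom (algebraMap k (U.toScheme.residueField x))) =
      q ≫ U.ι ≫ f := Spec.map_preimage _
  refine ⟨U.toScheme.residueField x, inferInstance, inferInstance, M, inferInstance, hM, ⟨?_⟩⟩
  exact BcIso.bcCongrIso hφ T ≪≫ BcIso.bcCompIso q (U.ι ≫ f) T ≪≫ BcIso.bcMapIso q e ≪≫ dsBcIso q M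

/-- An isomorphism of spectra of Hopf algebras comes from an isomorphism of bialgebras. -/
theorem exists_bialgEquiv {R : Type u} [CommRing R] {A B : Type u} [CommRing A] [Bialgebra R A] [CommRing B]
    [Bialgebra R B] (e : SpecOver R B ≅ SpecOver R A) [IsMonHom e.hom] :
    ∃ φ : A ≃ₐc[R] B, specMap R ((φ : A →ₐc[R] B) : A →ₐ[R] B) = e.hom := by
  obtain ⟨φ, hφ⟩ := exists_bialgHom_of_isMonHom R e.hom
  have h1 : (φ : A →ₐ[R] B).comp (specPreimage R e.inv) = AlgHom.id R B := by
    apply specMap_injective R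
    rw [specMap_comp, hφ, specMap_specPreimage, e.hom_inv_id, specMap_id]
  have h2 : (specPreimage R e.inv).comp (φ : A →ₐ[R] B) = AlgHom.id R A := by
    apply specMap_injective R
    rw [specMap_comp, hφ, specMap_specPreimage, e.inv_hom_id, specMap_id]
  have h3 : Function.Bijective φ := by
    rw [Function.bijective_iff_has_inverse]
    exact ⟨specPreimage R e.inv, fun x => DFunLike.congr_fun h2 x, fun x => DFunLike.congr_fun h1 x⟩
  exact ⟨BialgEquiv.ofBijective φ h3, hφ⟩

theorem exists_bialgEquiv_of_isMultTypeFT {B : Type u} [CommRing B] [HopfAlgebra k B]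
    (h : SGA3x.IsMultTypeFT (SpecOver k B)) :
    ∃ (L : Type u) (_ : Field L) (_ : Algebra k L) (M : Type) (_ : CommGroup M), Group.FG M ∧
      Nonempty ((L ⊗[k] B) ≃ₐc[L] MonoidAlgebra L M) := by
  obtain ⟨L, _, _, M, _, hM, ⟨e⟩⟩ := exists_field_split h
  obtain ⟨e₁, he₁⟩ := BcSpec892.exists_iso k L B
  let e₂ : Red.DS (Spec (CommRingCat.of L)) M ≅ SpecOver L (MonoidAlgebra L (Multiplicative M)) :=
    ⟨DSAff.dsTo L M, DSAff.dsFrom L M, DSAff.dsTo_dsFrom, DSAff.dsFrom_dsTo⟩
  let e' : Red.bc (Spec.map (CommRingCat.ofHom (algebraMap k L))) (SpecOver k B) ≅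
      Red.DS (Spec (CommRingCat.of L)) M := (Grp.forget _).mapIso e
  let e₃ : SpecOver L (MonoidAlgebra L (Multiplicative M)) ≅ SpecOver L (L ⊗[k] B) :=
    e₂.symm ≪≫ e'.symm ≪≫ e₁
  have i1 : IsMonHom e₂.inv := inferInstanceAs (IsMonHom (DSAff.dsFrom L M))
  have i2 : IsMonHom e'.inv := e.inv.hom.isMonHom_hom
  have i3 : IsMonHom e₃.hom := inferInstanceAs (IsMonHom (e₂.inv ≫ e'.inv ≫ e₁.hom))
  obtain ⟨φ, -⟩ := exists_bialgEquiv e₃
  exact ⟨L, inferInstance, inferInstance, Multiplicative M, inferInstance,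
    AddGroup.fg_iff_mul_fg.mp hM, ⟨φ⟩⟩

theorem isMultTypeConst_of_isMultTypeFT {B : Type u} [CommRing B] [HopfAlgebra k B]
    (h : SGA3x.IsMultTypeFT (SpecOver k B)) : SGA3b.IsMultTypeConst k B := by
  obtain ⟨L, _, _, M, _, hM, ⟨e⟩⟩ := exists_bialgEquiv_of_isMultTypeFT h
  refine ⟨L, inferInstance, inferInstance, inferInstance, ?_⟩
  exact Sga3A.MTConst.isDiag_of_gbasis
    ((Sga3A.MTBasis.GBasis.ofBialgEquiv e).reindex (MulEquiv.ulift.symm : M ≃* ULift.{u} M))

/-- A finitely generated commutative group is isomorphic to one in `Type`. -/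
theorem exists_type_equiv (M : Type u) [CommGroup M] [Group.FG M] :
    ∃ (M₀ : Type) (_ : AddCommGroup M₀), AddGroup.FG M₀ ∧ Nonempty (M ≃* Multiplicative M₀) := by
  have h1 : AddGroup.FG (Additive M) := inferInstance
  have h2 : Module.Finite ℤ (Additive M) := Module.Finite.iff_addGroup_fg.2 h1
  obtain ⟨n, f, hf⟩ := Module.Finite.exists_fin' ℤ (Additive M)
  let e : ((Fin n → ℤ) ⧸ LinearMap.ker f) ≃ₗ[ℤ] Additive M := f.quotKerEquivOfSurjective hf
  refine ⟨(Fin n → ℤ) ⧸ LinearMap.ker f, inferInstance, ?_, ⟨?_⟩⟩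
  · exact Module.Finite.iff_addGroup_fg.1 inferInstance
  · exact (AddEquiv.toMultiplicative e.symm.toAddEquiv : Multiplicative (Additive M) ≃* _)

theorem isMultTypeFT_of_split {T : Over (Spec (CommRingCat.of k))} [GrpObj T] (R : Type u) [CommRing R] [Algebra k R]
    [Module.FaithfullyFlat k R] (M : Type) [AddCommGroup M] (hM : AddGroup.FG M)
    (e : Grp.mk (Red.bc (Spec.map (CommRingCat.ofHom (algebraMap k R))) T) ≅
        Grp.mk (Red.DS (Spec (CommRingCat.of R)) M)) : SGA3x.IsMultTypeFT T := by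
  let f : Spec (CommRingCat.of R) ⟶ Spec (CommRingCat.of k) := Spec.map (CommRingCat.ofHom (algebraMap k R))
  have hf : (algebraMap k R).FaithfullyFlat := RingHom.faithfullyFlat_algebraMap_iff.mpr inferInstance
  have hflat : Flat f := by
    rw [HasRingHomProperty.Spec_iff (P := @Flat)]
    exact hf.flat
  have hsurj : Surjective f := by
    constructor
    exact PrimeSpectrum.comap_surjective_of_faithfullyFlat (A := k) (B := R)
  refine ⟨Spec (CommRingCat.of R), f, hflat, hsurj, ?_, ?_⟩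
  · intro V hV
    refine ⟨f ⁻¹ᵁ V, (hV.preimage f).isCompact, ?_⟩
    exact Set.image_preimage_eq _ hsurj.surj
  · intro s'
    refine ⟨⊤, trivial, M, inferInstance, hM, ⟨?_⟩⟩
    exact BcIso.bcCompIso _ f T ≪≫ BcIso.bcMapIso _ e ≪≫ dsBcIso _ M

theorem isMultTypeFT_of_isMultTypeConst {B : Type u} [CommRing B] [HopfAlgebra k B] [Algebra.FiniteType k B]
    (h : SGA3b.IsMultTypeConst k B) : SGA3x.IsMultTypeFT (SpecOver k B) := by
  obtain ⟨R, _, _, _, M, _, _, ⟨g⟩⟩ := Sga3A.MTConst.exists_gbasis h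
  obtain ⟨M₀, _, hM₀, ⟨e₀⟩⟩ := exists_type_equiv M
  let φ : MonoidAlgebra R (Multiplicative M₀) ≃ₐc[R] R ⊗[k] B := (g.reindex e₀).bialgEquiv
  obtain ⟨e₁, he₁⟩ := BcSpec892.exists_iso k R B
  let e₂ : Red.DS (Spec (CommRingCat.of R)) M₀ ≅ SpecOver R (MonoidAlgebra R (Multiplicative M₀)) :=
    ⟨DSAff.dsTo R M₀, DSAff.dsFrom R M₀, DSAff.dsTo_dsFrom, DSAff.dsFrom_dsTo⟩
  let e₃ : SpecOver R (R ⊗[k] B) ≅ SpecOver R (MonoidAlgebra R (Multiplicative M₀)) :=
    ⟨specMap R ((φ : MonoidAlgebra R (Multiplicative M₀) →ₐc[R] R ⊗[k] B) : _ →ₐ[R] _),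
      specMap R ((φ.symm : R ⊗[k] B →ₐc[R] MonoidAlgebra R (Multiplicative M₀)) : _ →ₐ[R] _), by
        rw [← specMap_comp, ← specMap_id]
        congr 1
        apply AlgHom.ext
        intro x
        exact φ.apply_symm_apply x, by
        rw [← specMap_comp, ← specMap_id]
        congr 1
        apply AlgHom.ext
        intro x
        exact φ.symm_apply_apply x⟩
  have i3 : IsMonHom e₃.hom := isMonHom_specMap R (φ : MonoidAlgebra R (Multiplicative M₀) →ₐc[R] R ⊗[k] B)
  have i2 : IsMonHom e₂.inv := inferInstanceAs (IsMonHom (DSAff.dsFrom R M₀))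
  let e := e₁ ≪≫ e₃ ≪≫ e₂.symm
  have he : IsMonHom e.hom := inferInstanceAs (IsMonHom (e₁.hom ≫ e₃.hom ≫ e₂.inv))
  exact isMultTypeFT_of_split R M₀ hM₀ (Grp.mkIso e (IsMonHom.one_hom e.hom) (IsMonHom.mul_hom e.hom))

end field

end Groth.Agent.Sga3.H829.MultConv
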