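import Groth.Agent.Sga3.H829.CentralField
import Groth.Agent.Sga3.H829.MultConv
import Groth.Agent.Sga3B.AffPts

/-!
# Subgroups of multiplicative type of connected nilpotent affine groups over a field are central (scheme form)
-/

set_option autoImplicit false
universe u
open CategoryTheory MonoidalCategory CartesianMonoidalCategory MonObj GrpObj AlgebraicGeometry Limits
open scoped TensorProduct

namespace Groth.Agent.Sga3.H829.Central

open Groth.Agent.Sga3B Groth.Agent.Sga3B.TorusAlgClosed Groth.Agent.Books.AffBridge MultConv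
open Groth.Agent.Sga3B.AffPts WithConv

section base

variable {S : Scheme.{u}}

/-- Being of multiplicative type is invariant under isomorphisms. -/
lemma isMultTypeFT_of_iso {T T' : Over S} [GrpObj T] [GrpObj T'] (e : Grp.mk T ≅ Grp.mk T')
    (h : SGA3x.IsMultTypeFT T) : SGA3x.IsMultTypeFT T' := by
  obtain ⟨S', f, hf, hs, hc, h⟩ := h
  refine ⟨S', f, hf, hs, hc, fun s' => ?_⟩
  obtain ⟨U, hU, M, _, hM, ⟨i⟩⟩ := h s'
  exact ⟨U, hU, M, inferInstance, hM, ⟨(BcIso.bcMapIso (U.ι ≫ f) e).symm ≪≫ i⟩⟩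

lemma isMultTypeFT_of_iso' {T T' : Over S} [GrpObj T] [GrpObj T'] (e : T ≅ T') [IsMonHom e.hom]
    (h : SGA3x.IsMultTypeFT T) : SGA3x.IsMultTypeFT T' :=
  isMultTypeFT_of_iso (Grp.mkIso e (IsMonHom.one_hom e.hom) (IsMonHom.mul_hom e.hom)) h

end base

section field

variable {k : Type u} [Field k]

/-- The points of a group isomorphic to `Spec A` with values in an algebra. -/
noncomputable def algPt {G : Over (Spec (CommRingCat.of k))} [GrpObj G] {A : Type u} [CommRing A] [HopfAlgebra k A]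
    (e : G ≅ SpecOver k A) [IsMonHom e.hom] (R : Type u) [CommRing R] [Algebra k R] :
    WithConv (A →ₐ[k] R) →* (SpecOver k R ⟶ G) where
  toFun g := specMap k g.ofConv ≫ e.inv
  map_one' := by
    rw [specMap_one, MonObj.one_comp]
  map_mul' x y := by
    rw [specMap_mul, MonObj.mul_comp]

lemma algPt_injective {G : Over (Spec (CommRingCat.of k))} [GrpObj G] {A : Type u} [CommRing A] [HopfAlgebra k A]
    (e : G ≅ SpecOver k A) [IsMonHom e.hom] (R : Type u) [CommRing R] [Algebra k R] :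
    Function.Injective (algPt e R) := by
  intro x y h
  have h' : specMap k x.ofConv ≫ e.inv = specMap k y.ofConv ≫ e.inv := h
  rw [cancel_mono] at h'
  exact WithConv.ofConv_injective (specMap_injective k h')

/-- **Homomorphisms from groups of multiplicative type to connected nilpotent affine groups are central.** -/
theorem commute (G : Over (Spec (CommRingCat.of k))) [GrpObj G] [IsAffine G.left] [ConnectedSpace ↥G.left]
    (hnil : ∃ n : ℕ, ∀ X : Over (Spec (CommRingCat.of k)), (⊤ : Subgroup (X ⟶ G)).lowerCentralSeries n = ⊥)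
    {M' : Over (Spec (CommRingCat.of k))} [GrpObj M'] (m' : M' ⟶ G) [IsMonHom m'] (hM' : SGA3x.IsMultTypeFT M')
    (X : Over (Spec (CommRingCat.of k))) (x : X ⟶ M') (g : X ⟶ G) : (x ≫ m') * g = g * (x ≫ m') := by
  obtain ⟨n, hn⟩ := hnil
  obtain ⟨A, _, _, eG, heG⟩ := exists_hopf k G
  have haff : IsAffineHom M'.hom := isAffineHom_of_isMultTypeFT hM'
  have haff' : IsAffine M'.left := isAffine_of_isAffineHom M'.hom
  obtain ⟨B, _, _, eM, heM⟩ := exists_hopf k M'
  have i1 : IsMonHom (eM.inv ≫ m' ≫ eG.hom) := inferInstance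
  obtain ⟨ρ, hρ⟩ := exists_bialgHom_of_isMonHom k (eM.inv ≫ m' ≫ eG.hom)
  have hB : SGA3x.IsMultTypeFT (SpecOver k B) := isMultTypeFT_of_iso' eM hM'
  obtain ⟨L, _, _, M, _, hM, ⟨ψ⟩⟩ := exists_bialgEquiv_of_isMultTypeFT hB
  have hconn : ConnectedSpace (PrimeSpectrum A) := by
    have : IsIso eG.hom.left := inferInstance
    exact (Scheme.homeoOfIso (asIso eG.hom.left)).surjective.connectedSpace
      (Scheme.homeoOfIso (asIso eG.hom.left)).continuous
  have hnA : ∀ (R : Type u) [CommRing R] [Algebra k R],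
      (⊤ : Subgroup (WithConv (A →ₐ[k] R))).lowerCentralSeries n = ⊥ := fun R _ _ =>
    CentralField.lcs_eq_bot_of_injective (algPt eG R) (algPt_injective eG R) n (hn (SpecOver k R))
  -- points
  obtain ⟨ξ, hξ⟩ := (affPt_bijective X).2 (x ≫ eM.hom)
  obtain ⟨γ, hγ⟩ := (affPt_bijective X).2 (g ≫ eG.hom)
  have h1 := CentralField.commute ρ ψ n hnA (Fn X) ξ (toConv γ)
  have h2 : (x ≫ m') ≫ eG.hom = affPt X (ξ.comp (ρ : A →ₐ[k] B)) := by
    rw [← affPt_specMap, hξ, hρ]
    simp
  rw [← cancel_mono eG.hom, MonObj.mul_comp, MonObj.mul_comp, h2, ← hγ]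
  have h3 := affPt_mul X (toConv (ξ.comp (ρ : A →ₐ[k] B))) (toConv γ)
  have h4 := affPt_mul X (toConv γ) (toConv (ξ.comp (ρ : A →ₐ[k] B)))
  rw [ofConv_toConv, ofConv_toConv] at h3 h4
  rw [← h3, ← h4]
  exact congrArg (fun z : WithConv (A →ₐ[k] Fn X) => affPt X z.ofConv) h1

end field

end Groth.Agent.Sga3.H829.Central
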