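import Groth.Agent.Sga3.H829.RigidGrp
import Mathlib.RingTheory.HopfAlgebra.MonoidAlgebra
import Mathlib.RingTheory.Bialgebra.MonoidAlgebra

/-!
# Diagonalisable subgroups of connected nilpotent affine groups are central

`A` a commutative Hopf algebra over a field `K` with connected spectrum (a connected affine group `G`), nilpotent in
the sense that some term of the lower central series of `G(R)` is trivial for all `R`.  Then every homomorphism
`D(M) → G` is central.
-/

set_option autoImplicit false
universe u v w

open TensorProduct WithConv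

namespace Groth.Agent.Sga3.H829.CentralAlg

open Groth.Agent.Sga3A.GeomConn IdemTensor Rigid IterComm RigidGrp

section univ

variable {K : Type u} {A : Type u} [Field K] [CommRing A] [HopfAlgebra K A]

/-- the algebra of `G ^ j` with its universal list of points -/
theorem exists_univ [ConnectedSpace (PrimeSpectrum A)] (j : ℕ) :
    ∃ (R : Type u) (_ : CommRing R) (_ : Algebra K R) (ε : R →ₐ[K] K) (lu : List (WithConv (A →ₐ[K] R))),
      ConnectedSpace (PrimeSpectrum R) ∧ lu.length = j ∧ (∀ g ∈ lu, push ε g = 1) ∧
      ∀ (S : Type w) [CommRing S] [Algebra K S] (l : List (WithConv (A →ₐ[K] S))), l.length = j →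
        ∃ f : R →ₐ[K] S, lu.map (push f) = l := by
  induction j with
  | zero =>
    refine ⟨K, inferInstance, inferInstance, AlgHom.id K K, [], inferInstance, rfl, by simp, ?_⟩
    intro S _ _ l hl
    rw [List.length_eq_zero_iff] at hl
    exact ⟨Algebra.ofId K S, by rw [hl]; rfl⟩
  | succ j ih =>
    obtain ⟨R, _, _, ε, lu, hR, hlen, hone, huniv⟩ := ih
    let εA : A →ₐ[K] K := Bialgebra.counitAlgHom K A
    let ε' : R ⊗[K] A →ₐ[K] K := Algebra.TensorProduct.lift ε εA (fun _ _ => .all _ _)
    let iL : R →ₐ[K] R ⊗[K] A := Algebra.TensorProduct.includeLeft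
    let iR : A →ₐ[K] R ⊗[K] A := Algebra.TensorProduct.includeRight
    refine ⟨R ⊗[K] A, inferInstance, inferInstance, ε', toConv iR :: lu.map (push iL),
      connectedSpace_tensor' εA, by simp [hlen], ?_, ?_⟩
    · intro g hg
      rcases List.mem_cons.mp hg with rfl | hg
      · apply ext_pt
        intro a
        change ε' ((1 : R) ⊗ₜ[K] a) = _
        rw [Algebra.TensorProduct.lift_tmul, map_one, one_mul]
        rfl
      · obtain ⟨g, hg', rfl⟩ := List.mem_map.mp hg
        rw [push_push]
        have h1 : ε'.comp iL = ε := by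
          ext r
          change ε' (r ⊗ₜ[K] (1 : A)) = _
          rw [Algebra.TensorProduct.lift_tmul, map_one, mul_one]
        rw [h1]
        exact hone g hg'
    · intro S _ _ l hl
      match l, hl with
      | g :: l, hl =>
        rw [List.length_cons, Nat.add_right_cancel_iff] at hl
        obtain ⟨f, hf⟩ := huniv S l hl
        let f' : R ⊗[K] A →ₐ[K] S := Algebra.TensorProduct.lift f g.ofConv (fun _ _ => .all _ _)
        refine ⟨f', ?_⟩
        rw [List.map_cons, List.map_map]
        have h1 : f'.comp iL = f := by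
          ext r
          change f' (r ⊗ₜ[K] (1 : A)) = _
          rw [Algebra.TensorProduct.lift_tmul, map_one, mul_one]
        have h2 : (fun x => push f' (push iL x)) = push (A := A) f := by
          funext x
          rw [push_push, h1]
        have h3 : push f' (toConv iR) = g := by
          apply ext_pt
          intro a
          change f' ((1 : R) ⊗ₜ[K] a) = _
          rw [Algebra.TensorProduct.lift_tmul, map_one, one_mul]
        rw [h3, ← hf]
        congr 1
        exact congrArg (fun F => List.map F lu) h2

end univ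

section pts

variable {K : Type u} {A : Type u} {M : Type v} {S : Type*} {S' : Type*} [Field K] [CommRing A] [HopfAlgebra K A]
  [CommGroup M] (π : A →ₐc[K] MonoidAlgebra K M) [CommRing S] [Algebra K S] [CommRing S'] [Algebra K S']

/-- the point of `G` given by a point of `D(M)` -/
noncomputable def pt (x : M →* S) : WithConv (A →ₐ[K] S) :=
  toConv ((MonoidAlgebra.lift K S M x).comp (π : A →ₐ[K] MonoidAlgebra K M))

lemma lift_mul (x y : M →* S) : toConv (MonoidAlgebra.lift K S M (x * y)) =
    toConv (MonoidAlgebra.lift K S M x) * toConv (MonoidAlgebra.lift K S M y) := by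
  apply WithConv.ofConv_injective
  rw [AlgHom.convMul_def]
  ext m
  simp

lemma pt_mul (x y : M →* S) : pt π (x * y) = pt π x * pt π y := by
  have h := congrArg WithConv.ofConv (lift_mul (K := K) x y)
  apply WithConv.ofConv_injective
  change (MonoidAlgebra.lift K S M (x * y)).comp (π : A →ₐ[K] MonoidAlgebra K M) = _
  rw [ofConv_toConv] at h
  rw [h]
  exact AlgHom.convMul_comp_bialgHom_distrib _ _ π

lemma push_pt (f : S →ₐ[K] S') (x : M →* S) : push f (pt π x) = pt π ((f : S →* S').comp x) := by
  apply WithConv.ofConv_injective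
  change f.comp ((MonoidAlgebra.lift K S M x).comp (π : A →ₐ[K] MonoidAlgebra K M)) = 
    (MonoidAlgebra.lift K S' M _).comp (π : A →ₐ[K] MonoidAlgebra K M)
  rw [← AlgHom.comp_assoc]
  congr 1
  ext m
  simp

end pts

section core

variable {K : Type u} {A : Type u} {M : Type v} [Field K] [CommRing A] [HopfAlgebra K A]
  [CommGroup M] (π : A →ₐc[K] MonoidAlgebra K M)

theorem step [ConnectedSpace (PrimeSpectrum A)] (j : ℕ)
    (hP : ∀ (S : Type (max u v)) [CommRing S] [Algebra K S] (x : M →* S) (l : List (WithConv (A →ₐ[K] S))),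
      l.length = j + 2 → ic (pt π x) l = 1)
    (S : Type (max u v)) [CommRing S] [Algebra K S] (x : M →* S) (l : List (WithConv (A →ₐ[K] S)))
    (hl : l.length = j + 1) : ic (pt π x) l = 1 := by
  obtain ⟨R, _, _, ε, lu, hR, hlen, hone, huniv⟩ := exists_univ.{u, max u v} (K := K) (A := A) (j + 1)
  obtain ⟨f, hf⟩ := huniv S l hl
  have hmem : ∀ (T : Type (max u v)) [CommRing T] [Algebra K T] (y : M →* T),
      pt π y ∈ Subgroup.upperCentralSeries (WithConv (A →ₐ[K] T)) (j + 1 + 1) := by
    intro T _ _ y
    rw [mem_upper_iff]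
    exact hP T y
  let iR : R →ₐ[K] MonoidAlgebra R M := MonoidAlgebra.singleOneAlgHom
  let c : WithConv (A →ₐ[K] MonoidAlgebra R M) := ic (pt π (MonoidAlgebra.of R M)) (lu.map (push iR))
  have hpush : ∀ {T : Type (max u v)} [CommRing T] [Algebra K T] (F : MonoidAlgebra R M →ₐ[K] T),
      push F c = ic (pt π ((F : MonoidAlgebra R M →* T).comp (MonoidAlgebra.of R M)))
        (lu.map (push (F.comp iR))) := by
    intro T _ _ F
    rw [map_ic, push_pt, List.map_map]
    rfl
  have hc : c = 1 := by
    refine RigidGrp.eq_one ε c ?_ ?_ ?_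
    · rw [hpush, hpush, hpush]
      have e1 : (MonoidAlgebra.mapDomainAlgHom K R (diagM M)).comp iR =
          (MonoidAlgebra.singleOneAlgHom : R →ₐ[K] MonoidAlgebra R (M × M)) := by
        ext r
        simp [iR, ← Prod.one_eq_mk]
      have e2 : (MonoidAlgebra.mapDomainAlgHom K R (MonoidHom.inl M M)).comp iR =
          (MonoidAlgebra.singleOneAlgHom : R →ₐ[K] MonoidAlgebra R (M × M)) := by
        ext r
        simp [iR, ← Prod.one_eq_mk]
      have e3 : (MonoidAlgebra.mapDomainAlgHom K R (MonoidHom.inr M M)).comp iR =
          (MonoidAlgebra.singleOneAlgHom : R →ₐ[K] MonoidAlgebra R (M × M)) := by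
        ext r
        simp [iR, ← Prod.one_eq_mk]
      rw [e1, e2, e3]
      have e4 : ((MonoidAlgebra.mapDomainAlgHom K R (diagM M) :
            MonoidAlgebra R M →* MonoidAlgebra R (M × M)).comp (MonoidAlgebra.of R M)) =
          ((MonoidAlgebra.mapDomainAlgHom K R (MonoidHom.inl M M) :
            MonoidAlgebra R M →* MonoidAlgebra R (M × M)).comp (MonoidAlgebra.of R M)) *
          ((MonoidAlgebra.mapDomainAlgHom K R (MonoidHom.inr M M) :
            MonoidAlgebra R M →* MonoidAlgebra R (M × M)).comp (MonoidAlgebra.of R M)) := by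
        ext m
        simp [diagM]
      rw [e4, pt_mul]
      apply ic_mul
      · rw [List.length_map, hlen]
        exact hmem _ _
      · rw [List.length_map, hlen]
        exact hmem _ _
    · rw [hpush]
      have h := ic_mem_center (pt π (((MonoidAlgebra.mapAlgHom M
        (Algebra.TensorProduct.includeLeft : R →ₐ[K] R ⊗[K] A)) :
          MonoidAlgebra R M →* MonoidAlgebra (R ⊗[K] A) M).comp (MonoidAlgebra.of R M)))
        (lu.map (push ((MonoidAlgebra.mapAlgHom M
          (Algebra.TensorProduct.includeLeft : R →ₐ[K] R ⊗[K] A)).comp iR))) (by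
          rw [List.length_map, hlen]
          exact hmem _ _)
      exact (Subgroup.mem_center_iff.mp h _).symm
    · rw [hpush]
      apply ic_eq_one_of_mem
      rw [List.mem_map]
      have h1 : lu ≠ [] := by
        rintro rfl
        simp at hlen
      obtain ⟨g, hg⟩ := List.exists_mem_of_ne_nil lu h1
      refine ⟨g, hg, ?_⟩
      have h2 : (MonoidAlgebra.mapAlgHom M ε).comp iR =
          (MonoidAlgebra.singleOneAlgHom : K →ₐ[K] MonoidAlgebra K M).comp ε := by
        ext r
        simp [iR]
      rw [h2, ← push_push, hone g hg, map_one]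
  let F : MonoidAlgebra R M →ₐ[K] S := MonoidAlgebra.liftNCAlgHom f x (fun _ _ => .all _ _)
  have h1 := hpush F
  rw [hc, map_one] at h1
  have h2 : (F : MonoidAlgebra R M →* S).comp (MonoidAlgebra.of R M) = x := by
    ext m
    simp [F]
  have h3 : F.comp iR = f := by
    ext r
    simp [F, iR]
  rw [h2, h3, hf] at h1
  exact h1.symm

/-- **Centrality of diagonalisable subgroups of connected nilpotent groups.** -/
theorem commute_pt [ConnectedSpace (PrimeSpectrum A)] (n : ℕ)
    (hn : ∀ (R : Type (max u v)) [CommRing R] [Algebra K R],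
      (⊤ : Subgroup (WithConv (A →ₐ[K] R))).lowerCentralSeries n = ⊥)
    (S : Type (max u v)) [CommRing S] [Algebra K S] (x : M →* S) (g : WithConv (A →ₐ[K] S)) :
    pt π x * g = g * pt π x := by
  have key : ∀ j : ℕ, j ≤ n → ∀ (S : Type (max u v)) [CommRing S] [Algebra K S] (x : M →* S)
      (l : List (WithConv (A →ₐ[K] S))), l.length = n - j + 1 → ic (pt π x) l = 1 := by
    intro j
    induction j with
    | zero =>
      intro _ S _ _ x l hl
      have h1 := ic_mem_lower (pt π x) l
      have h2 : (⊤ : Subgroup (WithConv (A →ₐ[K] S))).lowerCentralSeries l.length ≤ ⊥ := by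
        rw [← hn S, hl]
        exact Subgroup.lowerCentralSeries_antitone _ (by omega)
      exact Subgroup.mem_bot.mp (h2 h1)
    | succ j ih =>
      intro hj S _ _ x l hl
      have e : n - j = n - (j + 1) + 1 := by omega
      refine step π (n - (j + 1)) ?_ S x l hl
      intro S _ _ x l hl
      exact ih (by omega) S x l (by omega)
  have h1 := key n le_rfl S x [g] (by simp)
  rw [ic_cons, ic_nil, commutatorElement_eq_one_iff_mul_comm] at h1
  exact h1

end core

end Groth.Agent.Sga3.H829.CentralAlg
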