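import Groth.Agent.Sga3.H829.CentralAlg
import Groth.Agent.Sga3B.BcSpec892

/-!
# Subgroups of multiplicative type of connected nilpotent affine groups are central (Hopf algebra form)

`ρ : A → B` a bialgebra map of commutative Hopf algebras over a field `k` (a homomorphism `H → G`), such that
`L ⊗ B ≅ L[M]` for some extension field `L`; `G` connected and nilpotent.  Then `H → G` is central.
-/

set_option autoImplicit false
universe u v w

open TensorProduct WithConv

namespace Groth.Agent.Sga3.H829.CentralField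

open Groth.Agent.Sga3A.GeomConn RigidGrp CentralAlg Groth.Agent.Sga3B.BcSpec892

lemma lcs_eq_bot_of_injective {G H : Type*} [Group G] [Group H] (f : G →* H) (hf : Function.Injective f) (n : ℕ)
    (h : (⊤ : Subgroup H).lowerCentralSeries n = ⊥) : (⊤ : Subgroup G).lowerCentralSeries n = ⊥ := by
  have h1 : ∀ n, ((⊤ : Subgroup G).lowerCentralSeries n).map f ≤ (⊤ : Subgroup H).lowerCentralSeries n := by
    intro n
    induction n with
    | zero => exact le_top
    | succ n ih =>
      rw [Subgroup.lowerCentralSeries_succ, Subgroup.lowerCentralSeries_succ, Subgroup.map_commutator]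
      exact Subgroup.commutator_mono ih le_top
  rw [eq_bot_iff]
  intro x hx
  have h2 := h1 n (Subgroup.mem_map_of_mem f hx)
  rw [h, Subgroup.mem_bot] at h2
  exact Subgroup.mem_bot.mpr (hf (h2.trans (map_one f).symm))

variable {k L : Type u} [Field k] [Field L] [Algebra k L] {A B : Type u} [CommRing A] [HopfAlgebra k A]
  [CommRing B] [HopfAlgebra k B] {M : Type} [CommGroup M]

/-- restriction of points as an isomorphism of groups -/
noncomputable def resEquiv (L A : Type u) [Field L] [Algebra k L] [CommRing A] [HopfAlgebra k A]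
    (R : Type u) [CommRing R] [Algebra L R] [Algebra k R] [IsScalarTower k L R] :
    WithConv (L ⊗[k] A →ₐ[L] R) ≃* WithConv (A →ₐ[k] R) where
  toEquiv := Equiv.ofBijective res res_bijective
  map_mul' := res_mul

theorem commute [ConnectedSpace (PrimeSpectrum A)] (ρ : A →ₐc[k] B)
    (ψ : (L ⊗[k] B) ≃ₐc[L] MonoidAlgebra L M) (n : ℕ)
    (hn : ∀ (R : Type u) [CommRing R] [Algebra k R],
      (⊤ : Subgroup (WithConv (A →ₐ[k] R))).lowerCentralSeries n = ⊥)
    (S : Type u) [CommRing S] [Algebra k S] (x : B →ₐ[k] S) (g : WithConv (A →ₐ[k] S)) :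
    toConv (x.comp (ρ : A →ₐ[k] B)) * g = g * toConv (x.comp (ρ : A →ₐ[k] B)) := by
  -- the homomorphism over `L`
  let ρL : L ⊗[k] A →ₐc[L] L ⊗[k] B := Bialgebra.TensorProduct.map (BialgHom.id L L) ρ
  let π : L ⊗[k] A →ₐc[L] MonoidAlgebra L M := (ψ : L ⊗[k] B →ₐc[L] MonoidAlgebra L M).comp ρL
  have hconn : ConnectedSpace (PrimeSpectrum (L ⊗[k] A)) := connectedSpace_tensor (Bialgebra.counitAlgHom k A)
  have hnL : ∀ (R : Type u) [CommRing R] [Algebra L R],
      (⊤ : Subgroup (WithConv (L ⊗[k] A →ₐ[L] R))).lowerCentralSeries n = ⊥ := by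
    intro R _ _
    let : Algebra k R := Algebra.compHom R (algebraMap k L)
    have : IsScalarTower k L R := IsScalarTower.of_algebraMap_eq fun _ => rfl
    exact lcs_eq_bot_of_injective (resEquiv (k := k) L A R).toMonoidHom (resEquiv (k := k) L A R).injective n
      (hn R)
  -- reduction to `L`-algebras
  let S' : Type u := L ⊗[k] S
  let ι : S →ₐ[k] S' := Algebra.TensorProduct.includeRight
  have hι : Function.Injective ι := Algebra.TensorProduct.includeRight_injective (algebraMap k L).injective
  apply push_injective ι hι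
  rw [map_mul, map_mul]
  let x' : B →ₐ[k] S' := ι.comp x
  change toConv (x'.comp (ρ : A →ₐ[k] B)) * push ι g = push ι g * toConv (x'.comp (ρ : A →ₐ[k] B))
  generalize push ι g = g'
  obtain ⟨g', rfl⟩ := (resEquiv (k := k) L A S').surjective g'
  obtain ⟨xL, hxL⟩ := (resEquiv (k := k) L B S').surjective (toConv x')
  let y : M →* S' := ((xL.ofConv.comp (ψ.symm : MonoidAlgebra L M →ₐ[L] L ⊗[k] B) :
    MonoidAlgebra L M →ₐ[L] S') : MonoidAlgebra L M →* S').comp (MonoidAlgebra.of L M)
  have hy : MonoidAlgebra.lift L S' M y = xL.ofConv.comp (ψ.symm : MonoidAlgebra L M →ₐ[L] L ⊗[k] B) := by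
    ext m
    simp [y]
  have h1 := commute_pt.{u, 0} π n hnL S' y g'
  have h2 : resEquiv (k := k) L A S' (pt π y) = toConv (x'.comp (ρ : A →ₐ[k] B)) := by
    apply ext_pt
    intro a
    change MonoidAlgebra.lift L S' M y (ψ (ρL (1 ⊗ₜ a))) = x' (ρ a)
    rw [hy]
    change xL.ofConv (ψ.symm (ψ (ρL (1 ⊗ₜ a)))) = _
    rw [BialgEquiv.symm_apply_apply]
    change xL.ofConv (1 ⊗ₜ (ρ a)) = _
    exact congrArg (fun z : WithConv (B →ₐ[k] S') => z.ofConv (ρ a)) hxL
  rw [← h2, ← map_mul, ← map_mul, h1]

end Groth.Agent.Sga3.H829.CentralField
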