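import Groth.Agent.Sga3A.GeomConn

/-!
# Idempotents of `B ⊗ R`, `R` connected with a rational point

`K` a field, `R` a `K`-algebra with connected spectrum and a rational point `ε : R → K`, `B` any commutative
`K`-algebra.  An idempotent of `B ⊗ R` whose specialisation in `B` is zero is zero.  Consequences:
idempotents of `B ⊗ R` come from `B`; the tensor product of two such algebras is of the same kind.
-/

set_option autoImplicit false
universe u v w

open TensorProduct

namespace Groth.Agent.Sga3.H829.IdemTensor

open Groth.Agent.Sga3A.GeomConn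

variable {K : Type u} {B : Type v} {R : Type w} [Field K] [CommRing B] [Algebra K B] [CommRing R]
  [Algebra K R]

theorem eq_zero_of_sp_eq_zero' [ConnectedSpace (PrimeSpectrum R)] (ε : R →ₐ[K] K) (f : B ⊗[K] R)
    (hf : IsIdempotentElem f) (h0 : sp B ε f = 0) : f = 0 := by
  classical
  let b := Module.Basis.ofVectorSpace K R
  -- all coordinates of `f` are nilpotent
  have h1 : ∀ i, IsNilpotent ((b.baseChange B).repr f i) := by
    intro i
    rw [nilpotent_iff_mem_prime]
    intro p hp
    let L := p.ResidueField
    let π : B ⊗[K] R →ₐ[K] L ⊗[K] R :=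
      Algebra.TensorProduct.map (IsScalarTower.toAlgHom K B L) (AlgHom.id K R)
    have h2 : π f = 0 := by
      apply eq_zero_of_sp_eq_zero (L := L) ε
      · exact hf.map π
      · rw [sp_map, h0, map_zero]
    have h3 : ∀ z : B ⊗[K] R, (b.baseChange L).repr (π z) i =
        algebraMap B L ((b.baseChange B).repr z i) := by
      intro z
      induction z using TensorProduct.induction_on with
      | zero => simp
      | add x y hx hy => simp only [map_add, Finsupp.add_apply, hx, hy]
      | tmul c x =>
        change (b.baseChange L).repr (algebraMap B L c ⊗ₜ x) i = _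
        rw [Module.Basis.baseChange_repr_tmul, Module.Basis.baseChange_repr_tmul]
        rw [Algebra.smul_def, Algebra.smul_def, map_mul]
        congr 1
    have h4 := h3 f
    rw [h2, map_zero, Finsupp.coe_zero, Pi.zero_apply] at h4
    exact Ideal.algebraMap_residueField_eq_zero.mp h4.symm
  -- hence `f` is nilpotent
  have h2 : IsNilpotent f := by
    have h3 := (b.baseChange B).linearCombination_repr f
    rw [← h3, Finsupp.linearCombination_apply, Finsupp.sum]
    refine isNilpotent_sum fun i _ => ?_
    rw [Algebra.smul_def]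
    exact (Commute.all _ _).isNilpotent_mul_right ((h1 i).map (algebraMap B (B ⊗[K] R)))
  obtain ⟨n, hn⟩ := h2
  rcases Nat.eq_zero_or_pos n with rfl | hn0
  · rw [pow_zero] at hn
    calc f = 1 * f := (one_mul f).symm
      _ = 0 := by rw [hn, zero_mul]
  · rwa [hf.pow_eq hn0.ne'] at hn

theorem eq_tmul_of_isIdempotentElem [ConnectedSpace (PrimeSpectrum R)] (ε : R →ₐ[K] K) (f : B ⊗[K] R)
    (hf : IsIdempotentElem f) : f = sp B ε f ⊗ₜ 1 := by
  set e : B ⊗[K] R := sp B ε f ⊗ₜ 1 with he
  have hsp : sp B ε e = sp B ε f := by rw [he, sp_tmul, map_one, map_one, mul_one]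
  have hei : IsIdempotentElem e := by
    change e * e = e
    rw [he, Algebra.TensorProduct.tmul_mul_tmul, ← map_mul, hf, mul_one]
  -- `f (1 - e)` and `e (1 - f)` are idempotents with zero specialisation
  have h1 : f * (1 - e) = 0 := by
    apply eq_zero_of_sp_eq_zero' ε _ (hf.mul hei.one_sub)
    rw [map_mul, map_sub, map_one, hsp, mul_sub, mul_one, ← map_mul, hf, sub_self]
  have h2 : e * (1 - f) = 0 := by
    apply eq_zero_of_sp_eq_zero' ε _ (hei.mul hf.one_sub)
    rw [map_mul, map_sub, map_one, hsp, mul_sub, mul_one, ← map_mul, hf, sub_self]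
  have h3 : f = f * e := by
    rw [mul_sub, mul_one, sub_eq_zero] at h1; exact h1
  have h4 : e = e * f := by
    rw [mul_sub, mul_one, sub_eq_zero] at h2; exact h2
  rw [h3, mul_comm, ← h4]

/-- The tensor product of a connected algebra and of a connected algebra with a rational point is
connected. -/
theorem connectedSpace_tensor' [ConnectedSpace (PrimeSpectrum R)] [ConnectedSpace (PrimeSpectrum B)]
    (ε : R →ₐ[K] K) : ConnectedSpace (PrimeSpectrum (B ⊗[K] R)) := by
  have hntB : Nontrivial B := PrimeSpectrum.nonempty_iff_nontrivial.mp inferInstance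
  have hnt : Nontrivial (B ⊗[K] R) := (sp B ε : B ⊗[K] R →+* B).domain_nontrivial
  refine connectedSpace_of_idempotents _ fun f hf => ?_
  have h1 : IsIdempotentElem (sp B ε f) := hf.map (sp B ε)
  have h2 : sp B ε f = 0 ∨ sp B ε f = 1 := by
    have h3 := isClopen_iff.mp (PrimeSpectrum.isClopen_iff.mpr ⟨_, h1, rfl⟩)
    rcases h3 with h | h
    · left
      apply PrimeSpectrum.basicOpen_injOn_isIdempotentElem h1 IsIdempotentElem.zero
      ext1
      rw [h, PrimeSpectrum.basicOpen_zero]; rfl
    · right
      apply PrimeSpectrum.basicOpen_injOn_isIdempotentElem h1 IsIdempotentElem.one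
      ext1
      rw [h, PrimeSpectrum.basicOpen_one]; rfl
  have h3 := eq_tmul_of_isIdempotentElem ε f hf
  rcases h2 with h | h
  · left; rw [h3, h, TensorProduct.zero_tmul]
  · right; rw [h3, h]; rfl

end Groth.Agent.Sga3.H829.IdemTensor
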