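import Mathlib.GroupTheory.Nilpotent

/-!
# Iterated commutators with an element of the upper central series

`ic x [g₁, …, g_i] = [… [[x, g₁], g₂] …, g_i]`.  For `x` in the `(i+1)`-st term of the upper central series it is
central and multiplicative in `x`.
-/

set_option autoImplicit false

open Subgroup (mem_bot center mem_center_iff)

namespace Groth.Agent.Sga3.H829.IterComm

open commutatorElement

variable {G : Type*} [Group G]

/-- iterated commutator -/
def ic (x : G) (l : List G) : G := l.foldl (fun a g => ⁅a, g⁆) x

@[simp] lemma ic_nil (x : G) : ic x [] = x := rfl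

@[simp] lemma ic_cons (x g : G) (l : List G) : ic x (g :: l) = ic ⁅x, g⁆ l := rfl

lemma ic_append (x : G) (l l' : List G) : ic x (l ++ l') = ic (ic x l) l' := by
  simp [ic, List.foldl_append]

lemma map_ic {H : Type*} [Group H] (f : G →* H) (x : G) (l : List G) :
    f (ic x l) = ic (f x) (l.map f) := by
  induction l generalizing x with
  | nil => rfl
  | cons g l ih => rw [ic_cons, ih, map_commutatorElement, List.map_cons, ic_cons]

lemma ic_one (l : List G) : ic 1 l = 1 := by
  induction l with
  | nil => rfl
  | cons g l ih => rw [ic_cons, commutatorElement_one_left, ih]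

lemma ic_mem_upper (x : G) (l : List G) (n : ℕ) (hx : x ∈ Subgroup.upperCentralSeries G (n + l.length)) :
    ic x l ∈ Subgroup.upperCentralSeries G n := by
  induction l generalizing x with
  | nil => exact hx
  | cons g l ih => exact ih _ (Subgroup.mem_upperCentralSeries_succ_iff.mp hx g)

lemma ic_eq_one (x : G) (l : List G) (hx : x ∈ Subgroup.upperCentralSeries G l.length) : ic x l = 1 := by
  have h := ic_mem_upper x l 0 (by rwa [Nat.zero_add])
  rwa [Subgroup.upperCentralSeries_zero, mem_bot] at h

lemma ic_mem_center (x : G) (l : List G) (hx : x ∈ Subgroup.upperCentralSeries G (l.length + 1)) :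
    ic x l ∈ center G := by
  have h := ic_mem_upper x l 1 (by rwa [Nat.add_comm])
  rwa [Subgroup.upperCentralSeries_one] at h

lemma ic_mul (l : List G) (x y : G) (hx : x ∈ Subgroup.upperCentralSeries G (l.length + 1))
    (hy : y ∈ Subgroup.upperCentralSeries G (l.length + 1)) : ic (x * y) l = ic x l * ic y l := by
  induction l generalizing x y with
  | nil => rfl
  | cons g l ih =>
    rw [List.length_cons] at hx hy
    have hxg : ⁅x, g⁆ ∈ Subgroup.upperCentralSeries G (l.length + 1) := Subgroup.mem_upperCentralSeries_succ_iff.mp hx g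
    have hyg : ⁅y, g⁆ ∈ Subgroup.upperCentralSeries G (l.length + 1) := Subgroup.mem_upperCentralSeries_succ_iff.mp hy g
    -- `[xy, g] = z [y, g] [x, g]`
    have h1 : ⁅x * y, g⁆ = ⁅x, ⁅y, g⁆⁆ * (⁅y, g⁆ * ⁅x, g⁆) := by
      simp only [commutatorElement_def]; group
    have hz : ⁅x, ⁅y, g⁆⁆ ∈ Subgroup.upperCentralSeries G l.length := by
      rw [← commutatorElement_inv]
      exact inv_mem (Subgroup.mem_upperCentralSeries_succ_iff.mp hyg x)
    have hz' : ⁅x, ⁅y, g⁆⁆ ∈ Subgroup.upperCentralSeries G (l.length + 1) :=
      Subgroup.upperCentralSeries_mono G (Nat.le_succ _) hz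
    rw [ic_cons, ic_cons, ic_cons, h1, ih _ _ hz' (mul_mem hyg hxg), ih _ _ hyg hxg,
      ic_eq_one _ l hz, one_mul]
    exact mem_center_iff.mp (ic_mem_center _ l hxg) _

lemma ic_eq_one_of_mem (x : G) (l : List G) (h : (1 : G) ∈ l) : ic x l = 1 := by
  induction l generalizing x with
  | nil => simp at h
  | cons g l ih =>
    rw [ic_cons]
    rcases List.mem_cons.mp h with h | h
    · rw [← h, commutatorElement_one_right, ic_one]
    · exact ih _ h

lemma mem_upper_iff (x : G) (j : ℕ) :
    x ∈ Subgroup.upperCentralSeries G j ↔ ∀ l : List G, l.length = j → ic x l = 1 := by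
  constructor
  · rintro hx l rfl
    exact ic_eq_one x l hx
  · induction j generalizing x with
    | zero =>
      intro h
      rw [Subgroup.upperCentralSeries_zero, mem_bot]
      exact h [] rfl
    | succ j ih =>
      intro h
      rw [Subgroup.mem_upperCentralSeries_succ_iff]
      intro y
      apply ih
      intro l hl
      exact h (y :: l) (by rw [List.length_cons, hl])

lemma ic_mem_lower' (k : ℕ) (x : G) (hx : x ∈ (⊤ : Subgroup G).lowerCentralSeries k) (l : List G) :
    ic x l ∈ (⊤ : Subgroup G).lowerCentralSeries (k + l.length) := by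
  induction l generalizing x k with
  | nil => exact hx
  | cons g l ih =>
    rw [ic_cons, List.length_cons, Nat.add_comm l.length 1, ← Nat.add_assoc]
    apply ih
    exact Subgroup.commutator_mem_commutator hx (Subgroup.mem_top g)

lemma ic_mem_lower (x : G) (l : List G) :
    ic x l ∈ (⊤ : Subgroup G).lowerCentralSeries l.length := by
  have := ic_mem_lower' 0 x (Subgroup.mem_top x) l
  rwa [Nat.zero_add] at this

end Groth.Agent.Sga3.H829.IterComm
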