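import Groth.Agent.Sga3.H829.IdemTensor
import Groth.Agent.Books.CoeffMat
import Mathlib.RingTheory.Adjoin.Basic
import Mathlib.RingTheory.MatrixAlgebra
import Mathlib.RingTheory.HopfAlgebra.Convolution
import Mathlib.Algebra.MonoidAlgebra.Basic

/-!
# Central idempotent functionals with values in a connected algebra are constant

`A` a coalgebra over a field `K`, `R` a connected `K`-algebra with a rational point `ε`, `p : A → R` a linear map
which is idempotent for the convolution product, central (`∑ p(a₁) ⊗ a₂ = ∑ p(a₂) ⊗ a₁`) and such that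
`ε ∘ p = 0`.  Then `p = 0`.
-/

set_option autoImplicit false
universe u v w

open TensorProduct

namespace Groth.Agent.Sga3.H829.Rigid

open Groth.Agent.Sga3A.GeomConn IdemTensor Groth.Agent.Books.CoeffMat

section func

variable {K : Type u} {A : Type v} {R : Type w} [Field K] [AddCommGroup A] [Module K A] [Coalgebra K A]
  [CommRing R] [Algebra K R]

/-- every element of a coalgebra over a field is a combination of the entries of a multiplicative matrix -/
theorem exists_isMult (a : A) : ∃ (n : ℕ) (m : Matrix (Fin n) (Fin n) A), IsMult K m ∧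
    ∃ c : Fin n → Fin n → K, a = ∑ i, ∑ j, c i j • m i j := by
  obtain ⟨n, v, m, hv, hs, hm, hco⟩ := exists_isMult_of_finite (k := K) (A := A) (V := A) {a}
    (Set.finite_singleton a)
  refine ⟨n, m, hm, ?_⟩
  obtain ⟨c, hc⟩ := (Submodule.mem_span_range_iff_exists_fun K).1 (hs rfl)
  refine ⟨fun i j => c j * CoalgebraStruct.counit (R := K) (v i), ?_⟩
  have h1 : ∀ j, v j = ∑ i, CoalgebraStruct.counit (R := K) (v i) • m i j := by
    intro j
    have h2 := Coalgebra.rTensor_counit_comul (R := K) (v j)
    have h3 : CoalgebraStruct.comul (R := K) (v j) = ∑ i, v i ⊗ₜ[K] m i j := hco j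
    rw [h3, map_sum] at h2
    have h4 := congrArg (TensorProduct.lid K A) h2
    rw [map_sum] at h4
    simpa using h4.symm
  calc a = ∑ j, c j • v j := hc.symm
    _ = ∑ j, c j • ∑ i, CoalgebraStruct.counit (R := K) (v i) • m i j :=
        Finset.sum_congr rfl fun j _ => by rw [← h1 j]
    _ = ∑ j, ∑ i, (c j * CoalgebraStruct.counit (R := K) (v i)) • m i j :=
        Finset.sum_congr rfl fun j _ => by rw [Finset.smul_sum]; simp only [mul_smul]
    _ = _ := Finset.sum_comm

/-- the commutative subalgebra of the matrix algebra, tensored with `R`, embeds in the matrices over `R` -/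
noncomputable def matMap (K : Type u) (R : Type w) [Field K] [CommRing R] [Algebra K R] (n : ℕ)
    (S : Subalgebra K (Matrix (Fin n) (Fin n) K)) : S ⊗[K] R →ₐ[K] Matrix (Fin n) (Fin n) R :=
  ((matrixEquivTensor (Fin n) K R).symm.toAlgHom.comp
    (Algebra.TensorProduct.comm K (Matrix (Fin n) (Fin n) K) R).toAlgHom).comp
      (Algebra.TensorProduct.map S.val (AlgHom.id K R))

lemma matMap_tmul (n : ℕ) (S : Subalgebra K (Matrix (Fin n) (Fin n) K)) (x : S) (r : R) :
    matMap K R n S (x ⊗ₜ r) = r • (x : Matrix (Fin n) (Fin n) K).map (algebraMap K R) := by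
  simp [matMap, matrixEquivTensor_apply_symm]

lemma matMap_injective (n : ℕ) (S : Subalgebra K (Matrix (Fin n) (Fin n) K)) :
    Function.Injective (matMap K R n S) := by
  have h1 : Function.Injective (Algebra.TensorProduct.map S.val (AlgHom.id K R)) :=
    Module.Flat.rTensor_preserves_injective_linearMap (M := R) S.val.toLinearMap Subtype.val_injective
  have h2 : Function.Injective (Algebra.TensorProduct.comm K (Matrix (Fin n) (Fin n) K) R) :=
    (Algebra.TensorProduct.comm K (Matrix (Fin n) (Fin n) K) R).injective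
  have h3 : Function.Injective (matrixEquivTensor (Fin n) K R).symm :=
    (matrixEquivTensor (Fin n) K R).symm.injective
  exact (h3.comp h2).comp h1

lemma sp_eq_rid {B : Type*} [CommRing B] [Algebra K B] (ε : R →ₐ[K] K) (f : B ⊗[K] R) :
    sp B ε f = TensorProduct.rid K B (LinearMap.lTensor B ε.toLinearMap f) := by
  induction f with
  | zero => simp
  | add x y hx hy => rw [map_add, map_add, map_add, hx, hy]
  | tmul b r => simp [Algebra.smul_def, mul_comm]

lemma eq_zero_of_comm [ConnectedSpace (PrimeSpectrum R)] (ε : R →ₐ[K] K) {T : Type*} [Ring T] [Algebra K T]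
    (S : Subalgebra K T) (hS : ∀ x y : S, x * y = y * x)
    (f : S ⊗[K] R) (hf : IsIdempotentElem f)
    (h0 : TensorProduct.rid K S (LinearMap.lTensor S ε.toLinearMap f) = 0) : f = 0 := by
  let _ : CommRing S := { (inferInstance : Ring S) with mul_comm := hS }
  refine eq_zero_of_sp_eq_zero' ε f hf ?_
  rw [sp_eq_rid]
  exact h0

theorem functional_eq_zero [ConnectedSpace (PrimeSpectrum R)] (ε : R →ₐ[K] K) (p : A →ₗ[K] R)
    (h1 : ∀ a, LinearMap.mul' K R (TensorProduct.map p p (CoalgebraStruct.comul (R := K) a)) = p a)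
    (h2 : ∀ a, TensorProduct.map p (LinearMap.id (R := K) (M := A)) (CoalgebraStruct.comul (R := K) a) =
      TensorProduct.map p LinearMap.id (TensorProduct.comm K A A (CoalgebraStruct.comul (R := K) a)))
    (h3 : ∀ a, ε (p a) = 0) : p = 0 := by
  classical
  ext a
  obtain ⟨n, m, hm, c, ha⟩ := exists_isMult (K := K) a
  suffices H : ∀ i j, p (m i j) = 0 by
    rw [ha]
    simp [map_sum, H]
  let b := Module.Basis.ofVectorSpace K R
  -- the coefficient matrices
  let Q : (A →ₗ[K] K) → Matrix (Fin n) (Fin n) K := fun q => Matrix.of fun i j => q (m i j)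
  let P : Matrix (Fin n) (Fin n) R := Matrix.of fun i j => p (m i j)
  have hPP : P * P = P := by
    ext i j
    have h := h1 (m i j)
    rw [hm.comul, map_sum, map_sum] at h
    rw [Matrix.mul_apply]
    simpa [P] using h
  have hPQ : ∀ q : A →ₗ[K] K, ∀ i j, ∑ l, q (m l j) • p (m i l) = ∑ l, q (m i l) • p (m l j) := by
    intro q i j
    have h := h2 (m i j)
    rw [hm.comul] at h
    simp only [map_sum, TensorProduct.map_tmul, TensorProduct.comm_tmul, LinearMap.id_apply] at h
    have h' := congrArg (fun z => TensorProduct.rid K R (TensorProduct.map (LinearMap.id) q z)) h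
    simpa [map_sum] using h'
  let cs : _ → (A →ₗ[K] K) := fun s => (b.coord s).comp p
  have hcomm : ∀ s t, Q (cs s) * Q (cs t) = Q (cs t) * Q (cs s) := by
    intro s t
    ext i j
    rw [Matrix.mul_apply, Matrix.mul_apply]
    have h := congrArg (b.coord s) (hPQ (cs t) i j)
    simp only [map_sum, map_smul, smul_eq_mul] at h
    simp only [Q, Matrix.of_apply]
    calc ∑ l, cs s (m i l) * cs t (m l j) = ∑ l, cs t (m l j) * cs s (m i l) :=
          Finset.sum_congr rfl fun l _ => mul_comm _ _
      _ = ∑ l, cs t (m i l) * cs s (m l j) := h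
  let S : Subalgebra K (Matrix (Fin n) (Fin n) K) := Algebra.adjoin K (Set.range fun s => Q (cs s))
  have hS : ∀ x y : S, x * y = y * x := by
    have := Algebra.isMulCommutative_adjoin K (s := Set.range fun s => Q (cs s)) (by
      rintro _ ⟨s, rfl⟩ _ ⟨t, rfl⟩
      exact hcomm s t)
    exact fun x y => this.is_comm.comm x y
  have hQS : ∀ s, Q (cs s) ∈ S := fun s => Algebra.subset_adjoin ⟨s, rfl⟩
  -- a finite set of indices containing all supports
  let F := Finset.univ.biUnion fun ij : Fin n × Fin n => (b.repr (p (m ij.1 ij.2))).support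
  have hF : ∀ i j, p (m i j) = ∑ s ∈ F, b.repr (p (m i j)) s • b s := by
    intro i j
    conv_lhs => rw [← b.linearCombination_repr (p (m i j)), Finsupp.linearCombination_apply, Finsupp.sum]
    refine Finset.sum_subset ?_ ?_
    · intro s hs
      exact Finset.mem_biUnion.mpr ⟨(i, j), Finset.mem_univ _, hs⟩
    · intro s _ hs
      rw [Finsupp.notMem_support_iff.mp hs, zero_smul]
  let f : S ⊗[K] R := ∑ s ∈ F, (⟨Q (cs s), hQS s⟩ : S) ⊗ₜ b s
  have hf : matMap K R n S f = P := by
    ext i j
    rw [map_sum]
    simp only [matMap_tmul]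
    rw [Matrix.sum_apply]
    simp only [Matrix.smul_apply, Matrix.map_apply, P, Matrix.of_apply]
    rw [hF i j]
    refine Finset.sum_congr rfl fun s _ => ?_
    rw [smul_eq_mul, mul_comm, ← Algebra.smul_def]
    rfl
  have hfi : IsIdempotentElem f := by
    apply matMap_injective (R := R) n S
    rw [map_mul, hf, hPP]
  have hf0 : f = 0 := by
    refine eq_zero_of_comm ε S hS f hfi ?_
    rw [map_sum, map_sum]
    apply Subtype.ext
    ext i j
    have h4 := h3 (m i j)
    rw [hF i j, map_sum] at h4
    simp only [LinearMap.lTensor_tmul, TensorProduct.rid_tmul]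
    rw [AddSubmonoidClass.coe_finset_sum, Matrix.sum_apply]
    simp only [map_smul, smul_eq_mul] at h4
    refine Eq.trans (Finset.sum_congr rfl fun s _ => ?_) h4
    change ε (b s) * Q (cs s) i j = _
    rw [mul_comm]
    rfl
  intro i j
  have h5 : P i j = 0 := by
    rw [← hf, hf0, map_zero]
    rfl
  exact h5

end func

end Groth.Agent.Sga3.H829.Rigid
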