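import Groth.Agent.Sga3.H829.Rigid
import Groth.Agent.Sga3.H829.IterComm

/-!
# Rigidity of homomorphisms from diagonalisable groups with central values

`A` a commutative Hopf algebra over a field `K` (the group `G`), `R` a connected `K`-algebra with a rational point,
`c` a point of `G` with values in `R[M]` which is multiplicative in `M` (a homomorphism `D(M)_R → G_R`), commutes with
all points of `G`, and is trivial at the rational point.  Then `c = 1`.
-/

set_option autoImplicit false
universe u v w

open TensorProduct WithConv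

namespace Groth.Agent.Sga3.H829.RigidGrp

open Groth.Agent.Sga3A.GeomConn IdemTensor Rigid IterComm

section push

variable {K A R S T : Type*} [CommRing K] [CommRing A] [HopfAlgebra K A] [CommRing R] [Algebra K R]
  [CommRing S] [Algebra K S] [CommRing T] [Algebra K T]

/-- push a point forward along an algebra map -/
noncomputable def push (f : R →ₐ[K] S) : WithConv (A →ₐ[K] R) →* WithConv (A →ₐ[K] S) where
  toFun g := toConv (f.comp g.ofConv)
  map_one' := by
    apply WithConv.ofConv_injective
    ext a
    simp [AlgHom.convOne_def, Algebra.ofId_apply]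
  map_mul' x y := by
    apply WithConv.ofConv_injective
    exact AlgHom.comp_convMul_distrib f x y

lemma push_ofConv (f : R →ₐ[K] S) (g : WithConv (A →ₐ[K] R)) (a : A) :
    (push f g).ofConv a = f (g.ofConv a) := rfl

lemma push_push (f : R →ₐ[K] S) (h : S →ₐ[K] T) (g : WithConv (A →ₐ[K] R)) :
    push h (push f g) = push (h.comp f) g := rfl

lemma push_comp (f : R →ₐ[K] S) (h : S →ₐ[K] T) :
    (push (A := A) h).comp (push f) = push (h.comp f) := rfl

lemma push_id (g : WithConv (A →ₐ[K] R)) : push (AlgHom.id K R) g = g := rfl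

/-- the group of `R`-points of `Spec A` -/
noncomputable instance (priority := low) ptGrp : Group (WithConv (A →ₐ[K] R)) where
  inv g := toConv (g.ofConv.comp (HopfAlgebra.antipodeAlgHom K A))
  inv_mul_cancel g := by
    have h1 := congrArg (push g.ofConv) (AlgHom.antipode_id_cancel (R := K) (A := A))
    rw [map_mul, map_one] at h1
    exact h1

lemma push_injective (f : R →ₐ[K] S) (h : Function.Injective f) :
    Function.Injective (push (A := A) f) := by
  intro x y hxy
  apply WithConv.ofConv_injective
  ext a
  apply h
  exact DFunLike.congr_fun (congrArg WithConv.ofConv hxy) a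

lemma ext_pt {x y : WithConv (A →ₐ[K] R)} (h : ∀ a, x.ofConv a = y.ofConv a) : x = y := by
  apply WithConv.ofConv_injective
  ext a
  exact h a

lemma mul_ofConv (x y : WithConv (A →ₐ[K] R)) (a : A) :
    (x * y).ofConv a = LinearMap.mul' K R (TensorProduct.map x.ofConv.toLinearMap y.ofConv.toLinearMap
      (CoalgebraStruct.comul (R := K) a)) := by
  exact rfl

lemma one_ofConv (a : A) : (1 : WithConv (A →ₐ[K] R)).ofConv a =
    algebraMap K R (CoalgebraStruct.counit (R := K) a) := rfl

end push

section coeff

variable {K : Type*} {R : Type*} {M : Type*} [CommRing K] [CommRing R] [Algebra K R]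

/-- the coefficient of `m`, as a linear map -/
noncomputable def coeffL (K : Type*) {R M : Type*} [CommRing K] [CommRing R] [Algebra K R] (m : M) :
    MonoidAlgebra R M →ₗ[K] R where
  toFun x := x.coeff m
  map_add' x y := by simp
  map_smul' c x := by simp

@[simp] lemma coeffL_apply (m : M) (x : MonoidAlgebra R M) : coeffL K m x = x.coeff m := rfl

variable [CommGroup M]

lemma coeff_mapDomain_mul [DecidableEq M] (x y : MonoidAlgebra R M) (m m' : M) :
    (MonoidAlgebra.mapDomain (MonoidHom.inl M M) x * MonoidAlgebra.mapDomain (MonoidHom.inr M M) y).coeff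
      (m, m') = x.coeff m * y.coeff m' := by
  induction x using MonoidAlgebra.induction_linear with
  | zero => simp
  | add x₁ x₂ h₁ h₂ =>
    rw [MonoidAlgebra.mapDomain_add, add_mul, MonoidAlgebra.coeff_add, Finsupp.add_apply, h₁, h₂,
      MonoidAlgebra.coeff_add, Finsupp.add_apply, add_mul]
  | single n r =>
    induction y using MonoidAlgebra.induction_linear with
    | zero => simp
    | add x₁ x₂ h₁ h₂ =>
      rw [MonoidAlgebra.mapDomain_add, mul_add, MonoidAlgebra.coeff_add, Finsupp.add_apply, h₁, h₂,
        MonoidAlgebra.coeff_add, Finsupp.add_apply, mul_add]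
    | single n' r' =>
      simp only [MonoidAlgebra.mapDomain_single, MonoidAlgebra.single_mul_single, MonoidAlgebra.coeff_single,
        MonoidHom.inl_apply, MonoidHom.inr_apply, Prod.mk_mul_mk, mul_one, one_mul, Finsupp.single_apply,
        Prod.mk.injEq]
      by_cases h1 : n = m <;> by_cases h2 : n' = m' <;> simp [h1, h2]

omit [CommGroup M] in
lemma coeff_mapDomain_diag (x : MonoidAlgebra R M) (m : M) :
    (MonoidAlgebra.mapDomain (fun n : M => (n, n)) x).coeff (m, m) = x.coeff m := by
  have h : Function.Injective (fun n : M => (n, n)) := fun a b hab => (Prod.mk.inj hab).1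
  exact Finsupp.mapDomain_apply h x.coeff m

end coeff

section main

variable {K : Type u} {A : Type v} {R : Type w} {M : Type*} [Field K] [CommRing A] [HopfAlgebra K A]
  [CommRing R] [Algebra K R] [CommGroup M]

variable (K A R M) in
/-- the generic point of `G` in `(R ⊗ A)[M]` -/
noncomputable def gen : WithConv (A →ₐ[K] MonoidAlgebra (R ⊗[K] A) M) :=
  toConv ((MonoidAlgebra.singleOneAlgHom : (R ⊗[K] A) →ₐ[K] MonoidAlgebra (R ⊗[K] A) M).comp
    (Algebra.TensorProduct.includeRight : A →ₐ[K] R ⊗[K] A))

/-- the diagonal of `M` -/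
def diagM (M : Type*) [CommGroup M] : M →* M × M := (MonoidHom.id M).prod (MonoidHom.id M)

/-- **Rigidity**. -/
theorem eq_one [ConnectedSpace (PrimeSpectrum R)] (ε : R →ₐ[K] K)
    (c : WithConv (A →ₐ[K] MonoidAlgebra R M))
    (hmul : push (MonoidAlgebra.mapDomainAlgHom K R (diagM M)) c =
      push (MonoidAlgebra.mapDomainAlgHom K R (MonoidHom.inl M M)) c *
        push (MonoidAlgebra.mapDomainAlgHom K R (MonoidHom.inr M M)) c)
    (hcent : push (MonoidAlgebra.mapAlgHom M (Algebra.TensorProduct.includeLeft : R →ₐ[K] R ⊗[K] A)) c *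
        gen K A R M = gen K A R M *
      push (MonoidAlgebra.mapAlgHom M (Algebra.TensorProduct.includeLeft : R →ₐ[K] R ⊗[K] A)) c)
    (hε : push (MonoidAlgebra.mapAlgHom M ε) c = 1) : c = 1 := by
  classical
  let p : M → (A →ₗ[K] R) := fun m => (coeffL K m).comp c.ofConv.toLinearMap
  have h1 : ∀ m a, LinearMap.mul' K R (TensorProduct.map (p m) (p m)
      (CoalgebraStruct.comul (R := K) a)) = p m a := by
    intro m a
    have h := congrArg (fun z : WithConv (A →ₐ[K] MonoidAlgebra R (M × M)) => (z.ofConv a).coeff (m, m)) hmul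
    simp only [mul_ofConv] at h
    have h' : p m a = _ := (coeff_mapDomain_diag (c.ofConv a) m).symm.trans h
    rw [h']
    generalize CoalgebraStruct.comul (R := K) a = t
    induction t with
    | zero => simp
    | add x y hx hy => rw [map_add, map_add, hx, hy, map_add, map_add, MonoidAlgebra.coeff_add, Finsupp.add_apply]
    | tmul x y =>
      rw [TensorProduct.map_tmul, TensorProduct.map_tmul, LinearMap.mul'_apply, LinearMap.mul'_apply]
      exact (coeff_mapDomain_mul (c.ofConv x) (c.ofConv y) m m).symm
  have h2 : ∀ m a, TensorProduct.map (p m) (LinearMap.id (R := K) (M := A)) (CoalgebraStruct.comul (R := K) a) =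
      TensorProduct.map (p m) LinearMap.id (TensorProduct.comm K A A (CoalgebraStruct.comul (R := K) a)) := by
    intro m a
    have h := congrArg (fun z : WithConv (A →ₐ[K] MonoidAlgebra (R ⊗[K] A) M) => (z.ofConv a).coeff m) hcent
    simp only [mul_ofConv] at h
    have e1 : ∀ t : A ⊗[K] A, (LinearMap.mul' K (MonoidAlgebra (R ⊗[K] A) M) (TensorProduct.map
        (push (MonoidAlgebra.mapAlgHom M (Algebra.TensorProduct.includeLeft : R →ₐ[K] R ⊗[K] A))
          c).ofConv.toLinearMap (gen K A R M).ofConv.toLinearMap t)).coeff m =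
        TensorProduct.map (p m) (LinearMap.id (R := K) (M := A)) t := by
      intro t
      induction t with
      | zero => simp
      | add x y hx hy =>
        rw [map_add, map_add, MonoidAlgebra.coeff_add, Finsupp.add_apply, hx, hy, map_add]
      | tmul x y =>
        rw [TensorProduct.map_tmul, LinearMap.mul'_apply, TensorProduct.map_tmul]
        change ((MonoidAlgebra.mapAlgHom M (Algebra.TensorProduct.includeLeft : R →ₐ[K] R ⊗[K] A) (c.ofConv x)) *
          MonoidAlgebra.single 1 ((1 : R) ⊗ₜ[K] y)).coeff m = _
        rw [MonoidAlgebra.coeff_mul_single_one]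
        rw [MonoidAlgebra.coeff_mapAlgHom]
        change ((c.ofConv x).coeff m ⊗ₜ[K] (1 : A)) * _ = _
        rw [Algebra.TensorProduct.tmul_mul_tmul, mul_one, one_mul]
        rfl
    have e2 : ∀ t : A ⊗[K] A, (LinearMap.mul' K (MonoidAlgebra (R ⊗[K] A) M) (TensorProduct.map
        (gen K A R M).ofConv.toLinearMap
        (push (MonoidAlgebra.mapAlgHom M (Algebra.TensorProduct.includeLeft : R →ₐ[K] R ⊗[K] A))
          c).ofConv.toLinearMap t)).coeff m =
        TensorProduct.map (p m) (LinearMap.id (R := K) (M := A)) (TensorProduct.comm K A A t) := by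
      intro t
      rw [← e1]
      induction t with
      | zero => simp
      | add x y hx hy =>
        simp only [map_add, MonoidAlgebra.coeff_add, Finsupp.add_apply]
        rw [hx, hy]
      | tmul x y =>
        rw [TensorProduct.comm_tmul, TensorProduct.map_tmul, TensorProduct.map_tmul, LinearMap.mul'_apply,
          LinearMap.mul'_apply, mul_comm]
    rw [e1, e2] at h
    exact h
  have h3 : ∀ m, m ≠ 1 → ∀ a, ε (p m a) = 0 := by
    intro m hm a
    have h := congrArg (fun z : WithConv (A →ₐ[K] MonoidAlgebra K M) => (z.ofConv a).coeff m) hε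
    simp only [push_ofConv, one_ofConv] at h
    rw [MonoidAlgebra.coeff_mapAlgHom] at h
    refine Eq.trans h ?_
    rw [MonoidAlgebra.coe_algebraMap]
    simp [Finsupp.single_apply, hm.symm]
  have h4 : ∀ m, m ≠ 1 → p m = 0 := fun m hm => functional_eq_zero ε (p m) (h1 m) (h2 m) (h3 m hm)
  -- `c` comes from a point over `R`
  let aug : MonoidAlgebra R M →ₐ[K] R := (MonoidAlgebra.lift R R M (1 : M →* R)).restrictScalars K
  let j : R →ₐ[K] MonoidAlgebra R M := MonoidAlgebra.singleOneAlgHom
  let j' : R →ₐ[K] MonoidAlgebra R (M × M) := MonoidAlgebra.singleOneAlgHom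
  have h5 : ∀ a, c.ofConv a = MonoidAlgebra.single 1 ((c.ofConv a).coeff 1) := by
    intro a
    ext m
    rw [MonoidAlgebra.coeff_single, Finsupp.single_apply]
    split_ifs with h
    · rw [h]
    · exact congrArg (fun z : A →ₗ[K] R => z a) (h4 m (Ne.symm h))
  have h6 : push j (push aug c) = c := by
    apply ext_pt
    intro a
    rw [push_ofConv, push_ofConv, h5 a]
    change MonoidAlgebra.single 1 (MonoidAlgebra.lift R R M (1 : M →* R) (MonoidAlgebra.single 1 _)) = _
    rw [MonoidAlgebra.lift_single]
    simp
  have h7 : push (MonoidAlgebra.mapDomainAlgHom K R (diagM M)) (push j (push aug c)) =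
      push j' (push aug c) := by
    apply ext_pt
    intro a
    rw [push_ofConv, push_ofConv, push_ofConv]
    change MonoidAlgebra.mapDomain _ (MonoidAlgebra.single 1 _) = MonoidAlgebra.single 1 _
    rw [MonoidAlgebra.mapDomain_single, map_one]
    rfl
  have h8 : push (MonoidAlgebra.mapDomainAlgHom K R (MonoidHom.inl M M)) (push j (push aug c)) =
      push j' (push aug c) := by
    apply ext_pt
    intro a
    rw [push_ofConv, push_ofConv, push_ofConv]
    change MonoidAlgebra.mapDomain _ (MonoidAlgebra.single 1 _) = MonoidAlgebra.single 1 _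
    rw [MonoidAlgebra.mapDomain_single, map_one]
    rfl
  have h9 : push (MonoidAlgebra.mapDomainAlgHom K R (MonoidHom.inr M M)) (push j (push aug c)) =
      push j' (push aug c) := by
    apply ext_pt
    intro a
    rw [push_ofConv, push_ofConv, push_ofConv]
    change MonoidAlgebra.mapDomain _ (MonoidAlgebra.single 1 _) = MonoidAlgebra.single 1 _
    rw [MonoidAlgebra.mapDomain_single, map_one]
    rfl
  rw [← h6, h7, h8, h9] at hmul
  have h10 : push j' (push aug c) = 1 := by
    have := congrArg (fun z => (push j' (push aug c))⁻¹ * z) hmul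
    simpa using this.symm
  have h11 : push aug c = 1 := by
    apply push_injective j' MonoidAlgebra.single_right_injective
    rw [h10, map_one]
  rw [← h6, h11, map_one]

end main

end Groth.Agent.Sga3.H829.RigidGrp
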