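import Groth.Agent.Sga3.H829.RkSysOf
import Mathlib.AlgebraicGeometry.Morphisms.Flat

/-!
# Non-commutation at geometric points, transferred to algebras over algebraically closed fields over `R`
-/

set_option autoImplicit false
universe u

open CategoryTheory MonoidalCategory CartesianMonoidalCategory MonObj GrpObj AlgebraicGeometry Limits
open scoped TensorProduct

namespace Groth.Agent.Sga3.H829.RkNC

open Groth.Agent.Sga3B Cell PinMod DSPts GaPts RkOpenPts RkSysOf

section epi

variable {S : Scheme.{u}}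

/-- Flat surjective morphisms are epimorphisms over `S`. -/
lemma cancel_flat {X X' Y : Over S} (h : X' ⟶ X) [Flat h.left] [Surjective h.left] {a b : X ⟶ Y}
    (hab : h ≫ a = h ≫ b) : a = b := by
  ext1
  have := Flat.epi_of_flat_of_surjective h.left
  have h1 := congrArg (fun w => w.left) hab
  simp only [Over.comp_left] at h1
  rwa [cancel_epi] at h1

/-- Two different morphisms differ on an affine open. -/
lemma exists_affine_ne {X Y : Over S} {a b : X ⟶ Y} (h : a ≠ b) :
    ∃ (B : CommRingCat.{u}) (f : Spec B ⟶ X.left),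
      (Over.homMk f : Over.mk (f ≫ X.hom) ⟶ X) ≫ a ≠ (Over.homMk f : Over.mk (f ≫ X.hom) ⟶ X) ≫ b := by
  by_contra hc
  push Not at hc
  apply h
  ext1
  refine X.left.affineOpenCover.openCover.hom_ext _ _ fun j => ?_
  have := congrArg (fun w => w.left) (hc (X.left.affineOpenCover.X j) (X.left.affineOpenCover.f j))
  exact this

end epi

section

variable {S : Scheme.{u}} {G T : Over S} [GrpObj G] [GrpObj T] (D : Dat G T)
  {R : Type u} [CommRing R] (s : Spec (CommRingCat.of R) ⟶ S)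

/-- Two different morphisms from a scheme over a field over `S` differ on an algebra over a bigger
field over `R`. -/
theorem transfer_gen (K₀ : Type u) [Field K₀] (f₀ : Spec (CommRingCat.of K₀) ⟶ S)
    (X : Over (Spec (CommRingCat.of K₀))) {Y : Over S} {a b : (Over.map f₀).obj X ⟶ Y}
    (hne : a ≠ b) (K : Type u) [Field K] [Algebra R K] (ψ : K₀ →+* K)
    (hψ : Spec.map (CommRingCat.ofHom ψ) ≫ f₀ = Spec.map (CommRingCat.ofHom (algebraMap R K)) ≫ s) :
    ∃ (B : Type u) (_ : CommRing B) (_ : Algebra R B) (_ : K →ₐ[R] B)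
      (h : tB s B ⟶ (Over.map f₀).obj X), h ≫ a ≠ h ≫ b := by
  obtain ⟨B₀, f, hf⟩ := exists_affine_ne hne
  let φ₀ : K₀ →+* B₀ := (Spec.preimage (f ≫ X.hom)).hom
  have hφ₀ : Spec.map (CommRingCat.ofHom φ₀) = f ≫ X.hom := Spec.map_preimage _
  let _ : Algebra K₀ K := ψ.toAlgebra
  let _ : Algebra K₀ B₀ := φ₀.toAlgebra
  let B : Type u := K ⊗[K₀] B₀
  let _ : Algebra R B := ((algebraMap K B).comp (algebraMap R K)).toAlgebra
  let κ : K →ₐ[R] B := ⟨algebraMap K B, fun _ => rfl⟩
  let inc : B₀ →+* B := (Algebra.TensorProduct.includeRight : B₀ →ₐ[K₀] K ⊗[K₀] B₀).toRingHom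
  have hinc : inc.comp φ₀ = (algebraMap K B).comp ψ := by
    refine RingHom.ext fun c => ?_
    change (1 : K) ⊗ₜ[K₀] (algebraMap K₀ B₀ c) = (algebraMap K₀ K c) ⊗ₜ[K₀] (1 : B₀)
    rw [Algebra.algebraMap_eq_smul_one, Algebra.algebraMap_eq_smul_one, TensorProduct.smul_tmul]
  have hcomp : Spec.map (CommRingCat.ofHom inc) ≫ f ≫ X.hom ≫ f₀ =
      Spec.map (CommRingCat.ofHom (algebraMap R B)) ≫ s := by
    have h1 : algebraMap R B = (algebraMap K B).comp (algebraMap R K) := rfl
    rw [h1, CommRingCat.ofHom_comp, Spec.map_comp, Category.assoc, ← hψ, ← Category.assoc f,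
      ← hφ₀, ← Category.assoc, ← Spec.map_comp, ← CommRingCat.ofHom_comp, hinc,
      CommRingCat.ofHom_comp, Spec.map_comp, Category.assoc]
  let h₁ : tB s B ⟶ Over.mk (f ≫ ((Over.map f₀).obj X).hom) :=
    Over.homMk (Spec.map (CommRingCat.ofHom inc)) hcomp
  have hff : inc.FaithfullyFlat := by
    have h2 : (algebraMap B₀ (B₀ ⊗[K₀] K)).FaithfullyFlat := by
      rw [RingHom.faithfullyFlat_algebraMap_iff]; infer_instance
    have h3 : inc = ((Algebra.TensorProduct.comm K₀ B₀ K).toRingEquiv.toRingHom).comp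
        (algebraMap B₀ (B₀ ⊗[K₀] K)) := by
      refine RingHom.ext fun c => ?_
      change (1 : K) ⊗ₜ[K₀] c = (Algebra.TensorProduct.comm K₀ B₀ K) (c ⊗ₜ[K₀] (1 : K))
      rw [Algebra.TensorProduct.comm_tmul]
    rw [h3]
    exact RingHom.FaithfullyFlat.stableUnderComposition _ _ h2
      (RingHom.FaithfullyFlat.of_bijective
        (Algebra.TensorProduct.comm K₀ B₀ K).toRingEquiv.bijective)
  have hfs := (flat_and_surjective_SpecMap_iff (CommRingCat.ofHom inc)).2 hff
  have : Flat h₁.left := hfs.1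
  have : Surjective h₁.left := hfs.2
  refine ⟨B, inferInstance, inferInstance, κ, h₁ ≫ Over.homMk f, ?_⟩
  intro h
  apply hf
  apply cancel_flat h₁
  simpa only [Category.assoc] using h

/-- Transfer of non-commuting points from a field over `S` to an algebra over a bigger field over
`R`. -/
theorem transfer (K₀ : Type u) [Field K₀] (f₀ : Spec (CommRingCat.of K₀) ⟶ S)
    (X : Over (Spec (CommRingCat.of K₀))) (x y : X ⟶ Red.bc f₀ (Red.Ga S))
    (hne : (x ≫ (Over.pullback f₀).map D.pp) * (y ≫ (Over.pullback f₀).map D.pm) ≠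
        (y ≫ (Over.pullback f₀).map D.pm) * (x ≫ (Over.pullback f₀).map D.pp))
    (K : Type u) [Field K] [Algebra R K] (ψ : K₀ →+* K)
    (hψ : Spec.map (CommRingCat.ofHom ψ) ≫ f₀ = Spec.map (CommRingCat.ofHom (algebraMap R K)) ≫ s) :
    ∃ (B : Type u) (_ : CommRing B) (_ : Algebra R B) (_ : K →ₐ[R] B) (x y : B),
        (gaB s x ≫ D.pp) * (gaB s y ≫ D.pm) ≠ (gaB s y ≫ D.pm) * (gaB s x ≫ D.pp) := by
  obtain ⟨x₁, rfl⟩ := (bcEquiv f₀ X (Red.Ga S)).surjective x
  obtain ⟨y₁, rfl⟩ := (bcEquiv f₀ X (Red.Ga S)).surjective y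
  rw [bcEquiv_comp, bcEquiv_comp, ← map_mul, ← map_mul] at hne
  have hne1 : (x₁ ≫ D.pp) * (y₁ ≫ D.pm) ≠ (y₁ ≫ D.pm) * (x₁ ≫ D.pp) :=
    fun h => hne (by rw [h])
  obtain ⟨B, _, _, κ, h, hh⟩ := transfer_gen s K₀ f₀ X hne1 K ψ hψ
  obtain ⟨x', hx'⟩ := exists_gaB s (h ≫ x₁)
  obtain ⟨y', hy'⟩ := exists_gaB s (h ≫ y₁)
  refine ⟨B, inferInstance, inferInstance, κ, x', y', ?_⟩
  intro h1
  rw [← hx', ← hy'] at h1
  apply hh
  simpa only [MonObj.comp_mul, Category.assoc] using h1

/-- A point of `Spec R` and the geometric point of `S` below it. -/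
theorem exists_field (Q : Ideal R) (hQ : Q.IsPrime) : ∃ (s₀ : S) (K : Type u) (_ : Field K)
    (_ : IsAlgClosed K) (_ : Algebra R K) (ψ : AlgebraicClosure (S.residueField s₀) →+* K),
    RingHom.ker (algebraMap R K) = Q ∧
    Spec.map (CommRingCat.ofHom ψ) ≫ Red.geomPt s₀ =
      Spec.map (CommRingCat.ofHom (algebraMap R K)) ≫ s := by
  let P : Spec (CommRingCat.of R) := (⟨Q, hQ⟩ : PrimeSpectrum R)
  let s₀ : S := s P
  let κ := (Spec (CommRingCat.of R)).residueField P
  let K := AlgebraicClosure κ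
  let γ : S.residueField s₀ →+* K := (algebraMap κ K).comp (s.residueFieldMap P).hom
  let _ : Algebra (S.residueField s₀) K := γ.toAlgebra
  let ψ : AlgebraicClosure (S.residueField s₀) →ₐ[S.residueField s₀] K := IsAlgClosed.lift
  let pt : Spec (CommRingCat.of K) ⟶ Spec (CommRingCat.of R) :=
    Spec.map (CommRingCat.ofHom (algebraMap κ K)) ≫
      (Spec (CommRingCat.of R)).fromSpecResidueField P
  let ρ : R →+* K := (Spec.preimage pt).hom
  have hρ : Spec.map (CommRingCat.ofHom ρ) = pt := Spec.map_preimage _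
  refine ⟨s₀, K, inferInstance, inferInstance, ρ.toAlgebra, ψ.toRingHom, ?_, ?_⟩
  · change RingHom.ker ρ = Q
    have h1 : pt (⊥ : PrimeSpectrum K) = P := by
      change (Spec (CommRingCat.of R)).fromSpecResidueField P _ = P
      exact Scheme.fromSpecResidueField_apply _ _
    have h2 : (Spec.map (CommRingCat.ofHom ρ)) (⊥ : PrimeSpectrum K) = P := by rw [hρ, h1]
    have h3 : (PrimeSpectrum.comap ρ (⊥ : PrimeSpectrum K)) = (⟨Q, hQ⟩ : PrimeSpectrum R) := h2
    exact congrArg PrimeSpectrum.asIdeal h3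
  · change _ = Spec.map (CommRingCat.ofHom ρ) ≫ s
    rw [hρ]
    have h2 : ψ.toRingHom.comp (algebraMap (S.residueField s₀) (AlgebraicClosure (S.residueField s₀)))
        = (algebraMap κ K).comp (s.residueFieldMap P).hom := ψ.comp_algebraMap
    have h3 : Spec.map (CommRingCat.ofHom ψ.toRingHom) ≫ Spec.map (CommRingCat.ofHom
        (algebraMap (S.residueField s₀) (AlgebraicClosure (S.residueField s₀)))) =
        Spec.map (CommRingCat.ofHom (algebraMap κ K)) ≫ Spec.map (s.residueFieldMap P) := by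
      rw [← Spec.map_comp, ← CommRingCat.ofHom_comp, h2, CommRingCat.ofHom_comp, Spec.map_comp]
      rfl
    rw [Red.geomPt, ← Category.assoc, h3, Category.assoc,
      Scheme.Hom.SpecMap_residueFieldMap_fromSpecResidueField, Category.assoc]

/-- The non-commutation hypothesis over `R`. -/
theorem nc_of_geom (hnc : ∀ s₀ : S, ∃ (X : Over (Spec (CommRingCat.of
        (AlgebraicClosure (S.residueField s₀)))))
      (x y : X ⟶ Red.bc (Red.geomPt s₀) (Red.Ga S)),
      (x ≫ (Over.pullback (Red.geomPt s₀)).map D.pp) *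
        (y ≫ (Over.pullback (Red.geomPt s₀)).map D.pm) ≠
        (y ≫ (Over.pullback (Red.geomPt s₀)).map D.pm) *
          (x ≫ (Over.pullback (Red.geomPt s₀)).map D.pp)) : NC D s := by
  intro Q hQ
  obtain ⟨s₀, K, _, _, _, ψ, h1, h2⟩ := exists_field s Q hQ
  obtain ⟨X, x, y, hne⟩ := hnc s₀
  exact ⟨K, inferInstance, inferInstance, inferInstance, h1,
    transfer D s _ _ X x y hne K ψ h2⟩

end

end Groth.Agent.Sga3.H829.RkNC
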