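import Groth.Agent.Sga3B.Chart

/-!
# Points of an open immersion, tested on affine schemes
-/

set_option autoImplicit false
universe u

open CategoryTheory MonoidalCategory CartesianMonoidalCategory MonObj GrpObj AlgebraicGeometry Limits

namespace Groth.Agent.Sga3.H829.RkOpenPts

open Groth.Agent.Sga3B Cell PinMod DSPts GaPts

section

variable {S : Scheme.{u}}

/-- lifting along an open immersion -/
lemma exists_lift_iff {X Y Z : Over S} (c : Y ⟶ Z) [IsOpenImmersion c.left] (g : X ⟶ Z) :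
    (∃ w : X ⟶ Y, w ≫ c = g) ↔ Set.range g.left ⊆ Set.range c.left := by
  constructor
  · rintro ⟨w, rfl⟩
    rintro _ ⟨x, rfl⟩
    exact ⟨w.left x, by rw [Over.comp_left]; rfl⟩
  · intro h
    refine ⟨Over.homMk (IsOpenImmersion.lift c.left g.left h) ?_, ?_⟩
    · rw [← Over.w c, IsOpenImmersion.lift_fac_assoc, Over.w]
    · ext1
      exact IsOpenImmersion.lift_fac _ _ _

variable {R : Type u} [CommRing R] (s : Spec (CommRingCat.of R) ⟶ S)
variable {B C : Type u} [CommRing B] [Algebra R B] [CommRing C] [Algebra R C]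

/-- The ideal of the complement of the preimage of an open subscheme. -/
lemma exists_ideal {Y Z : Over S} (c : Y ⟶ Z) [IsOpenImmersion c.left] (g : tB s B ⟶ Z) :
    ∃ J : Ideal B, ∀ (C : Type u) [CommRing C] [Algebra R C] (φ : B →ₐ[R] C),
      (∃ w : tB s C ⟶ Y, w ≫ c = tMap s φ ≫ g) ↔ J.map φ.toRingHom = ⊤ := by
  let V : Set (PrimeSpectrum B) := (g.left ⁻¹' (Set.range c.left))ᶜ
  have hV : IsClosed V := by
    refine IsOpen.isClosed_compl ?_
    exact (c.left.opensRange.isOpen).preimage g.left.continuous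
  refine ⟨PrimeSpectrum.vanishingIdeal V, ?_⟩
  intro C _ _ φ
  rw [exists_lift_iff]
  have h1 : PrimeSpectrum.zeroLocus (PrimeSpectrum.vanishingIdeal V : Set B) = V := by
    rw [PrimeSpectrum.zeroLocus_vanishingIdeal_eq_closure, hV.closure_eq]
  have h2 : (PrimeSpectrum.vanishingIdeal V).map φ.toRingHom = ⊤ ↔
      PrimeSpectrum.zeroLocus (((PrimeSpectrum.vanishingIdeal V).map φ.toRingHom : Ideal C) : Set C)
        = ∅ := by
    rw [PrimeSpectrum.zeroLocus_empty_iff_eq_top]
  have h3 : PrimeSpectrum.zeroLocus (((PrimeSpectrum.vanishingIdeal V).map φ.toRingHom : Ideal C) :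
      Set C) = PrimeSpectrum.comap φ.toRingHom ⁻¹' V := by
    rw [← h1, PrimeSpectrum.preimage_comap_zeroLocus, Ideal.map, PrimeSpectrum.zeroLocus_span, h1]
  rw [h2, h3]
  constructor
  · intro h
    rw [Set.eq_empty_iff_forall_notMem]
    intro x hx
    exact hx (h ⟨x, rfl⟩)
  · intro h
    rintro _ ⟨x, rfl⟩
    by_contra hx
    rw [Set.eq_empty_iff_forall_notMem] at h
    exact h x hx

lemma tMap_id : tMap s (AlgHom.id R B) = 𝟙 _ := by
  ext1
  exact Spec.map_id _

lemma tMap_comp {D : Type u} [CommRing D] [Algebra R D] (φ : B →ₐ[R] C) (ψ : C →ₐ[R] D) :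
    tMap s ψ ≫ tMap s φ = tMap s (ψ.comp φ) := by
  ext1
  simp only [Over.comp_left, tMap_left, ← Spec.map_comp, ← CommRingCat.ofHom_comp]
  rfl

end

end Groth.Agent.Sga3.H829.RkOpenPts
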