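import Groth.Agent.Sga3.H829.RkOpenPts
import Groth.Agent.Sga3.H790.RkMain

/-!
# The rank one system attached to group scheme data over `s : Spec R ⟶ S`
-/

set_option autoImplicit false
universe u

open CategoryTheory MonoidalCategory CartesianMonoidalCategory MonObj GrpObj AlgebraicGeometry Limits

namespace Groth.Agent.Sga3.H829.RkSysOf

open Groth.Agent.Sga3B Cell PinMod DSPts GaPts RkOpenPts Groth.Agent.Sga3.H790

section cell

variable {S : Scheme.{u}} {G T : Over S} [GrpObj G] (i : T ⟶ G) (pp pm : Red.Ga S ⟶ G)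

/-- the big cell morphism `(y, t, x) ↦ p₋(y) i(t) p₊(x)` -/
noncomputable abbrev cell : (Red.Ga S ⊗ T) ⊗ Red.Ga S ⟶ G :=
  ((pm ⊗ₘ i) ⊗ₘ pp) ≫ (μ[G] ▷ G) ≫ μ[G]

lemma lift_cell {X : Over S} (y : X ⟶ Red.Ga S) (t : X ⟶ T) (x : X ⟶ Red.Ga S) :
    lift (lift y t) x ≫ cell i pp pm = (y ≫ pm) * (t ≫ i) * (x ≫ pp) := by
  rw [Hom.mul_def, Hom.mul_def, cell, lift_map_assoc, lift_map, lift_whiskerRight_assoc]

lemma eq_lift_cell {X : Over S} (w : X ⟶ (Red.Ga S ⊗ T) ⊗ Red.Ga S) :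
    w = lift (lift (w ≫ fst _ _ ≫ fst _ _) (w ≫ fst _ _ ≫ snd _ _)) (w ≫ snd _ _) := by
  apply CartesianMonoidalCategory.hom_ext
  · apply CartesianMonoidalCategory.hom_ext <;> simp
  · simp

end cell

/-- The data of the rank one formula. -/
structure Dat {S : Scheme.{u}} (G T : Over S) [GrpObj G] [GrpObj T] where
  i : T ⟶ G
  [hi : IsMonHom i]
  α : T ⟶ Red.Gm S
  [hα : IsMonHom α]
  pp : Red.Ga S ⟶ G
  pm : Red.Ga S ⟶ G
  [hp : IsMonHom pp]
  [hm : IsMonHom pm]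
  hpp : ∀ (X : Over S) (t : X ⟶ T) (x : X ⟶ Red.Ga S), ∃ x' : X ⟶ Red.Ga S,
      x' ≫ pp = (t ≫ i) * (x ≫ pp) * (t ≫ i)⁻¹ ∧ Red.gaFn x' = Red.gmFn (t ≫ α) * Red.gaFn x
  hpm : ∀ (X : Over S) (t : X ⟶ T) (y : X ⟶ Red.Ga S), ∃ y' : X ⟶ Red.Ga S,
      y' ≫ pm = (t ≫ i) * (y ≫ pm) * (t ≫ i)⁻¹ ∧ Red.gaFn y' * Red.gmFn (t ≫ α) = Red.gaFn y
  hΩ : IsOpenImmersion (cell i pp pm).left

attribute [instance] Dat.hi Dat.hα Dat.hp Dat.hm Dat.hΩ

/-- A splitting of `T` over `s : Spec R ⟶ S`, on points. -/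
structure Spl {S : Scheme.{u}} (T : Over S) [GrpObj T] {R : Type u} [CommRing R]
    (s : Spec (CommRingCat.of R) ⟶ S) (M : Type) [AddCommGroup M] where
  τ : ∀ (B : Type u) [CommRing B] [Algebra R B], TPt M B ≃* (tB s B ⟶ T)
  nat : ∀ {B C : Type u} [CommRing B] [Algebra R B] [CommRing C] [Algebra R C] (φ : B →ₐ[R] C)
    (t : TPt M B), tMap s φ ≫ τ B t = τ C (TPt.map φ t)

variable {S : Scheme.{u}} {G T : Over S} [GrpObj G] [GrpObj T] (D : Dat G T)
  {R : Type u} [CommRing R] (s : Spec (CommRingCat.of R) ⟶ S)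

section

variable {B C : Type u} [CommRing B] [Algebra R B] [CommRing C] [Algebra R C]

/-- the point of `Ga S` with coordinate `x : B` -/
noncomputable abbrev gaB (x : B) : tB s B ⟶ Red.Ga S := gaPt (tB s B) (fnOf s x)

lemma gaB_injective {x y : B} (h : gaB s x = gaB s y) : x = y := by
  apply fnOf_injective s
  have := congrArg Red.gaFn h
  rwa [gaFn_gaPt, gaFn_gaPt] at this

lemma gaB_add (x y : B) : gaB s (x + y) = gaB s x * gaB s y := by
  rw [gaB, fnOf_add, gaPt_add]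

lemma exists_gaB (x : tB s B ⟶ Red.Ga S) : ∃ y : B, x = gaB s y := exists_gaPt s x

end

variable {M : Type} [AddCommGroup M] (P : Spl T s M) (m : M)
  (hm : ∀ (B : Type u) [CommRing B] [Algebra R B] (t : TPt M B),
    Red.gmFn (P.τ B t ≫ D.α) = fnOf s (t (Multiplicative.ofAdd m) : B))

include hm

lemma conj_p (B : Type u) [CommRing B] [Algebra R B] (t : TPt M B) (x : B) :
    (P.τ B t ≫ D.i) * (gaB s x ≫ D.pp) =
      (gaB s ((t (Multiplicative.ofAdd m) : B) * x) ≫ D.pp) * (P.τ B t ≫ D.i) := by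
  obtain ⟨x', h1, h2⟩ := D.hpp _ (P.τ B t) (gaB s x)
  rw [gaFn_gaPt, hm, ← fnOf_mul] at h2
  have h3 : x' = gaB s ((t (Multiplicative.ofAdd m) : B) * x) := by
    rw [← gaPt_gaFn _ x', h2]
  rw [← h3, h1, inv_mul_cancel_right]

lemma conj_q (B : Type u) [CommRing B] [Algebra R B] (t : TPt M B) (y : B) :
    (P.τ B t ≫ D.i) * (gaB s y ≫ D.pm) =
      (gaB s ((((t (Multiplicative.ofAdd m))⁻¹ : Bˣ) : B) * y) ≫ D.pm) * (P.τ B t ≫ D.i) := by
  obtain ⟨y', h1, h2⟩ := D.hpm _ (P.τ B t) (gaB s y)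
  rw [gaFn_gaPt, hm] at h2
  have h3 : y' = gaB s ((((t (Multiplicative.ofAdd m))⁻¹ : Bˣ) : B) * y) := by
    obtain ⟨z, rfl⟩ := exists_gaB s y'
    rw [gaFn_gaPt, ← fnOf_mul] at h2
    have h4 := fnOf_injective s h2
    rw [← h4, mul_comm z, Units.inv_mul_cancel_left]
  rw [← h3, h1, inv_mul_cancel_right]

omit hm in
lemma exists_cell_iff (B : Type u) [CommRing B] [Algebra R B] (g : tB s B ⟶ G) :
    (∃ w : tB s B ⟶ (Red.Ga S ⊗ T) ⊗ Red.Ga S, w ≫ cell D.i D.pp D.pm = g) ↔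
    (∃ (y : B) (t : TPt M B) (x : B),
      g = (gaB s y ≫ D.pm) * (P.τ B t ≫ D.i) * (gaB s x ≫ D.pp)) := by
  constructor
  · rintro ⟨w, rfl⟩
    rw [eq_lift_cell w]
    obtain ⟨y, hy⟩ := exists_gaB s (w ≫ fst _ _ ≫ fst _ _)
    obtain ⟨x, hx⟩ := exists_gaB s (w ≫ snd _ _)
    obtain ⟨t, ht⟩ := (P.τ B).surjective (w ≫ fst _ _ ≫ snd _ _)
    exact ⟨y, t, x, by rw [lift_cell, ← hy, ← hx, ht]⟩
  · rintro ⟨y, t, x, rfl⟩
    exact ⟨lift (lift (gaB s y) (P.τ B t)) (gaB s x), lift_cell _ _ _ _ _ _⟩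

omit hm in
lemma cell_inj (B : Type u) [CommRing B] [Algebra R B] (y y' : B) (t t' : TPt M B) (x x' : B)
    (h : (gaB s y ≫ D.pm) * (P.τ B t ≫ D.i) * (gaB s x ≫ D.pp) =
      (gaB s y' ≫ D.pm) * (P.τ B t' ≫ D.i) * (gaB s x' ≫ D.pp)) : y = y' ∧ t = t' ∧ x = x' := by
  rw [← lift_cell, ← lift_cell] at h
  have : Mono (cell D.i D.pp D.pm) := Over.mono_of_mono_left _
  rw [cancel_mono] at h
  have h1 := congrArg (fun w => w ≫ fst _ _ ≫ fst _ _) h
  have h2 := congrArg (fun w => w ≫ fst _ _ ≫ snd _ _) h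
  have h3 := congrArg (fun w => w ≫ snd _ _) h
  simp only [lift_fst_assoc, lift_fst, lift_snd] at h1 h2 h3
  exact ⟨gaB_injective s h1, (P.τ B).injective h2, gaB_injective s h3⟩

/-- The rank one system attached to group scheme data. -/
noncomputable def sys : RkSys.Sys R M where
  G B _ _ := tB s B ⟶ G
  grp B _ _ := inferInstance
  map φ :=
    { toFun := fun g => tMap s φ ≫ g
      map_one' := MonObj.comp_one _
      map_mul' := fun _ _ => MonObj.comp_mul _ _ _ }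
  map_id g := by
    change tMap s _ ≫ g = g
    rw [tMap_id, Category.id_comp]
  map_comp φ ψ g := by
    change tMap s _ ≫ g = tMap s _ ≫ tMap s _ ≫ g
    rw [← tMap_comp, Category.assoc]
  p B _ _ x := gaB s x ≫ D.pp
  q B _ _ x := gaB s x ≫ D.pm
  i B _ _ :=
    { toFun := fun t => P.τ B t ≫ D.i
      map_one' := by rw [map_one, MonObj.one_comp]
      map_mul' := fun _ _ => by rw [map_mul, MonObj.mul_comp] }
  p_add B _ _ x x' := by rw [gaB_add, MonObj.mul_comp]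
  q_add B _ _ x x' := by rw [gaB_add, MonObj.mul_comp]
  map_p φ x := by
    change tMap s φ ≫ gaB s x ≫ D.pp = _
    rw [← Category.assoc, tMap_gaPt]
  map_q φ x := by
    change tMap s φ ≫ gaB s x ≫ D.pm = _
    rw [← Category.assoc, tMap_gaPt]
  map_i φ t := by
    change tMap s φ ≫ P.τ _ t ≫ D.i = P.τ _ _ ≫ D.i
    rw [← Category.assoc, P.nat]
    rfl
  m := m
  ip B _ _ t x := conj_p D s P m hm B t x
  iq B _ _ t y := conj_q D s P m hm B t y
  cell_inj B _ _ y y' t t' x x' h := cell_inj D s P B y y' t t' x x' h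
  isOpen B _ _ g := by
    obtain ⟨J, hJ⟩ := exists_ideal s (cell D.i D.pp D.pm) g
    refine ⟨J, fun C _ _ φ => ?_⟩
    rw [← hJ C φ, exists_cell_iff D s P]
    rfl

omit hm in
/-- Non-commutation of the root groups at all primes of `R`. -/
def NC : Prop := ∀ Q : Ideal R, Q.IsPrime → ∃ (K : Type u) (_ : Field K) (_ : IsAlgClosed K)
      (_ : Algebra R K), RingHom.ker (algebraMap R K) = Q ∧
      ∃ (B : Type u) (_ : CommRing B) (_ : Algebra R B) (_ : K →ₐ[R] B) (x y : B),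
        (gaB s x ≫ D.pp) * (gaB s y ≫ D.pm) ≠ (gaB s y ≫ D.pm) * (gaB s x ≫ D.pp)

/-- The rank one formula on affine points over `s`. -/
theorem exist_pts (lam : M →+ ℤ) (hlam : lam m ≠ 0) (hnc : NC D s) :
    ∃ (a : Rˣ) (F : ∀ (B : Type u) [CommRing B] [Algebra R B], Bˣ →* (tB s B ⟶ T)),
      (∀ {B C : Type u} [CommRing B] [Algebra R B] [CommRing C] [Algebra R C] (φ : B →ₐ[R] C)
        (z : Bˣ), tMap s φ ≫ F B z = F C (Units.map φ.toRingHom.toMonoidHom z)) ∧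
      (∀ (B : Type u) [CommRing B] [Algebra R B] (z : Bˣ),
        Red.gmFn (F B z ≫ D.α) = fnOf s ((z : B) ^ 2)) ∧
      (∀ (B : Type u) [CommRing B] [Algebra R B] (x y : B),
        (∃ w : tB s B ⟶ (Red.Ga S ⊗ T) ⊗ Red.Ga S,
          w ≫ cell D.i D.pp D.pm = (gaB s x ≫ D.pp) * (gaB s y ≫ D.pm)) ↔
          IsUnit (1 + algebraMap R B a * x * y)) ∧
      (∀ (B : Type u) [CommRing B] [Algebra R B] (x y : B) (z : Bˣ),
        (z : B) = 1 + algebraMap R B a * x * y →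
          (gaB s x ≫ D.pp) * (gaB s y ≫ D.pm) =
            (gaB s (((z⁻¹ : Bˣ) : B) * y) ≫ D.pm) * (F B z ≫ D.i) *
              (gaB s (((z⁻¹ : Bˣ) : B) * x) ≫ D.pp)) := by
  obtain ⟨a, F, h1, h2, h3, h4⟩ := RkSys.main (sys D s P m hm) lam hlam hnc
  refine ⟨a, fun B _ _ => (P.τ B).toMonoidHom.comp (F B), ?_, ?_, ?_, ?_⟩
  · intro B C _ _ _ _ φ z
    change tMap s φ ≫ P.τ B (F B z) = P.τ C (F C _)
    rw [P.nat, h1]
    rfl
  · intro B _ _ z
    change Red.gmFn (P.τ B (F B z) ≫ D.α) = _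
    rw [hm]
    congr 1
    exact congrArg Units.val (h2 B z)
  · intro B _ _ x y
    rw [← h3 B x y, exists_cell_iff D s P]
    rfl
  · intro B _ _ x y z hz
    exact h4 B x y z hz

end Groth.Agent.Sga3.H829.RkSysOf
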